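import Cfsg.Agent.H401.Equi
import Cfsg.Agent.H529.TwinCycle
import Cfsg.Agent.H529.TwoCycles

/-!
# Jordan's theorem for groups generated by their Sylow subgroups
-/

set_option autoImplicit false
open Subgroup MulAction
open scoped Pointwise

namespace Cfsg.Agent.H401

/-- The arithmetic condition under which a primitive group of degree `p + a` with a `p`-cycle
contains the alternating group. -/
def AltCrit (p a : ℕ) : Prop := 3 ≤ a ∨ (a = 2 ∧ (p = 3 ∨ p = 5))

theorem AltCrit.mono {p a a' : ℕ} (h : AltCrit p a) (h' : a ≤ a') : AltCrit p a' := by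
  unfold AltCrit at *
  omega

theorem AltCrit.two_le {p a : ℕ} (h : AltCrit p a) : 2 ≤ a := by
  unfold AltCrit at h
  omega

section

variable {D Z : Type*} [Group D] [Finite D] [MulAction D Z] {p : ℕ} [Fact p.Prime]

theorem fs_zpowers {g : D} {z : Z} : z ∈ fs (zpowers g) Z ↔ g • z = z := by
  rw [mem_fs, zpowers_le]
  rfl

omit [Finite D] in
theorem zpowers_eq {P : Subgroup D} (hP : Nat.card P = p) {g : D} (hg : g ∈ P) (hg1 : g ≠ 1) :
    zpowers g = P := by
  have : Finite P := Nat.finite_of_card_ne_zero (by rw [hP]; exact (Fact.out : p.Prime).ne_zero)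
  apply Subgroup.eq_of_le_of_card_ge ((zpowers_le).2 hg)
  have h1 : Nat.card (zpowers g) ∣ p := by
    rw [← hP]
    exact Subgroup.card_dvd_of_le ((zpowers_le).2 hg)
  rcases (Nat.dvd_prime Fact.out).1 h1 with h | h
  · exfalso
    rw [Nat.card_zpowers, orderOf_eq_one_iff] at h
    exact hg1 h
  · rw [h, hP]

theorem exists_cycle [Fintype Z] [DecidableEq Z] {P : Subgroup D} (hP : Nat.card P = p) {a : ℕ}
    (hf : (fs P Z).ncard = a) (hZ : Fintype.card Z = a + p) (ha : a < p) :
    ∃ g ∈ P, (toPermHom D Z g).IsCycle ∧ (toPermHom D Z g).support.card = p := by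
  have hp : p.Prime := Fact.out
  have hnt : P ≠ ⊥ := by
    rintro rfl
    rw [Subgroup.card_bot] at hP
    exact hp.one_lt.ne hP
  obtain ⟨g, hg, hg1⟩ := (Subgroup.ne_bot_iff_exists_ne_one.1 hnt).elim
    fun x hx => (⟨x, x.2, fun h => hx (Subtype.ext h)⟩ : ∃ x : D, x ∈ P ∧ x ≠ 1)
  have hz := zpowers_eq hP hg hg1
  have hsupp : (toPermHom D Z (g : D)).support.card = p := by
    have h1 : (((toPermHom D Z (g : D)).support : Set Z)) = (fs P Z)ᶜ := by
      ext z
      rw [← hz, Set.mem_compl_iff, fs_zpowers]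
      simp
    have h2 := Set.ncard_add_ncard_compl (fs P Z)
    rw [← h1, Set.ncard_coe_finset, hf, Nat.card_eq_fintype_card, hZ] at h2
    omega
  refine ⟨g, hg, ?_, hsupp⟩
  have ho : orderOf (toPermHom D Z (g : D)) = p := by
    have h1 : orderOf (toPermHom D Z (g : D)) ∣ p := by
      have h2 := orderOf_map_dvd (toPermHom D Z) (g : D)
      rwa [← Nat.card_zpowers (g : D), hz, hP] at h2
    rcases (Nat.dvd_prime hp).1 h1 with h | h
    · exfalso
      rw [orderOf_eq_one_iff] at h
      rw [h] at hsupp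
      simp at hsupp
      exact hp.ne_zero hsupp.symm
    · exact h
  apply Equiv.Perm.isCycle_of_prime_order'
  · rw [ho]
    exact hp
  · rw [ho, hZ]
    omega

theorem sign_eq_one [Fintype Z] [DecidableEq Z] (hp2 : p ≠ 2) (hD : PGen p D) (d : D) :
    toPermHom D Z d ∈ alternatingGroup Z := by
  have h : (alternatingGroup Z).comap (toPermHom D Z) = ⊤ := by
    apply hD.eq_top
    intro Q q hq
    rw [mem_comap, Equiv.Perm.mem_alternatingGroup]
    obtain ⟨k, hk⟩ := (IsPGroup.iff_orderOf.1 Q.isPGroup') ⟨q, hq⟩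
    rw [Subgroup.orderOf_mk] at hk
    have hodd : Odd (orderOf q) := by
      rw [hk]
      exact ((Fact.out : p.Prime).odd_of_ne_two hp2).pow
    rcases Int.units_eq_one_or (Equiv.Perm.sign (toPermHom D Z q)) with h1 | h1
    · exact h1
    · exfalso
      have h2 : (Equiv.Perm.sign (toPermHom D Z q)) ^ orderOf q = 1 := by
        rw [← map_pow, ← map_pow, pow_orderOf_eq_one, map_one, map_one]
      rw [h1, hodd.neg_one_pow] at h2
      exact absurd h2 (by decide)
  have : d ∈ (alternatingGroup Z).comap (toPermHom D Z) := by rw [h]; trivial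
  exact this

theorem range_eq_alternating [Fintype Z] [DecidableEq Z] [IsPretransitive D Z] (hp2 : p ≠ 2)
    (hD : PGen p D) {P : Subgroup D} (hP : Nat.card P = p) {a : ℕ}
    (hf : (fs P Z).ncard = a) (hZ : Fintype.card Z = a + p) (ha : a < p) (hcrit : AltCrit p a) :
    (toPermHom D Z).range = alternatingGroup Z := by
  obtain ⟨g, hg, hgc, hgp⟩ := exists_cycle hP hf hZ ha
  have hp : p.Prime := Fact.out
  have hp3 : 3 ≤ p := by
    have := hp.two_le
    omega
  have htr : IsPretransitive (toPermHom D Z).range Z := by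
    constructor
    intro x y
    obtain ⟨d, hd⟩ := MulAction.exists_smul_eq D x y
    exact ⟨⟨toPermHom D Z d, d, rfl⟩, hd⟩
  have hprim := Cfsg.Agent.H529.TwoCycles.isPreprimitive_of_cycle hp hgc hgp (by omega) htr
    ⟨g, rfl⟩
  have hle : (toPermHom D Z).range ≤ alternatingGroup Z := by
    rintro _ ⟨d, rfl⟩
    exact sign_eq_one hp2 hD d
  have h2 := hcrit.two_le
  apply le_antisymm hle
  rcases hcrit with h | ⟨rfl, rfl | rfl⟩
  · exact Cfsg.Agent.S0713.result _ hprim hp (by omega) (by omega) hgc hgp ⟨g, rfl⟩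
  · exact Equiv.Perm.alternatingGroup_le_of_isPreprimitive_of_isThreeCycle_mem hprim
      (card_support_eq_three_iff.1 hgp) ⟨g, rfl⟩
  · exact (Cfsg.Agent.H529.TwinCycle.eq_alternating_seven (by omega) hle hprim hgc hgp
      ⟨g, rfl⟩).ge

end

end Cfsg.Agent.H401
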