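import Cfsg.Agent.H401.CD
import Cfsg.Agent.PermutationGroups.PrimeDegree
import Cfsg.Agent.SolvableStructure.PrimitiveSolvable
import Cfsg.Agent.Lib.SolvableMinNormal

/-!
# No group of degree 13 with a Sylow 3-subgroup fixing exactly four points
-/

set_option autoImplicit false
open Subgroup MulAction
open scoped Pointwise

namespace Cfsg.Agent.H401

theorem not_dvd_card_of_fixed {G Y : Type*} [Group G] [Finite G] [MulAction G Y]
    [IsPretransitive G Y] {p : ℕ} [Fact p.Prime] (P : Sylow p G) {y : Y}
    (hy : (P : Subgroup G) ≤ stabilizer G y) : ¬ p ∣ Nat.card Y := by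
  intro h
  rw [← MulAction.index_stabilizer_of_transitive G y] at h
  exact P.not_dvd_index (h.trans (Subgroup.index_dvd_of_le hy))

theorem no_thirteen {G X : Type*} [Group G] [Finite G] [MulAction G X] [Finite X]
    [IsPretransitive G X] (hX : Nat.card X = 13) {p : ℕ} [Fact p.Prime] (hp : p = 3)
    (P : Sylow p G) (hf : (fs (P : Subgroup G) X).ncard = 4) : False := by
  classical
  subst hp
  have := Fintype.ofFinite X
  have hXf : Fintype.card X = 13 := by rw [← Nat.card_eq_fintype_card, hX]
  set hom := toPermHom G X with hhom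
  have htr : IsPretransitive hom.range X := by
    constructor
    intro x y
    obtain ⟨d, hd⟩ := MulAction.exists_smul_eq G x y
    exact ⟨⟨hom d, d, rfl⟩, hd⟩
  rcases Cfsg.Agent.PermutationGroups.PrimeDegree.isSolvable_or_two_transitive
    (by rw [hXf]; norm_num) hom.range with hs | h2
  · -- solvable case
    have hnt : Nontrivial X := by
      rw [← Fintype.one_lt_card_iff_nontrivial, hXf]; norm_num
    have hntH : Nontrivial hom.range := by
      obtain ⟨x, y, hxy⟩ := hnt.exists_pair_ne
      obtain ⟨d, hd⟩ := MulAction.exists_smul_eq hom.range x y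
      refine ⟨d, 1, ?_⟩
      rintro rfl
      rw [one_smul] at hd
      exact hxy hd
    obtain ⟨A, hAc, hAcomm, hAne⟩ :=
      Cfsg.Agent.Lib.SolvableMinNormal.exists_characteristic_abelian (G := hom.range)
    have hprim : IsPreprimitive hom.range X := IsPreprimitive.of_prime_card (by
      rw [hX]; norm_num)
    have hAn : A.Normal := inferInstance
    have hAtr := Cfsg.Agent.SolvableStructure.PrimitiveSolvable.isPretransitive_of_normal hprim A
      hAne
    obtain ⟨x⟩ : Nonempty X := inferInstance
    have hAst := Cfsg.Agent.SolvableStructure.PrimitiveSolvable.stabilizer_eq_bot_of_comm A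
      (fun a ha b hb => hAcomm.is_comm.comm ⟨a, ha⟩ ⟨b, hb⟩ |> congrArg Subtype.val) x
    have hAcard := Cfsg.Agent.SolvableStructure.PrimitiveSolvable.card_eq_of_regular A x hAst
    rw [hX] at hAcard
    let D : Subgroup hom.range := (P : Subgroup G).map hom.rangeRestrict
    have hD : IsPGroup 3 D := P.isPGroup'.map _
    have hfs : fs D X = fs (P : Subgroup G) X := by
      ext y
      rw [mem_fs, mem_fs]
      constructor
      · intro h g hg
        exact h ⟨g, hg, rfl⟩
      · rintro h _ ⟨g, hg, rfl⟩
        exact h hg
    have hdvd := ncard_fs_dvd (X := X) (D := D) (K := A) hD (by rw [← hAcard]; norm_num)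
      (by rw [normalizer_eq_top_iff.2 hAn]; exact le_top)
      (fun x y => by
        obtain ⟨a, ha⟩ := MulAction.exists_smul_eq A x y
        exact ⟨a, a.2, ha⟩)
      (by
        rw [hfs]
        apply Set.nonempty_of_ncard_ne_zero
        rw [hf]
        norm_num)
    rw [hfs, hf, hX] at hdvd
    norm_num at hdvd
  · -- two-transitive case
    have h2' : IsPretransitive G (Fin 2 ↪ X) := by
      constructor
      intro x y
      obtain ⟨⟨_, d, rfl⟩, hd⟩ := h2.exists_smul_eq x y
      exact ⟨d, hd⟩
    have hcard : Nat.card (Fin 2 ↪ X) = 156 := by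
      rw [Nat.card_eq_fintype_card, Fintype.card_embedding_eq, hXf]
      rfl
    have h1 : 1 < (fs (P : Subgroup G) X).ncard := by omega
    obtain ⟨a, ha, b, hb, hab⟩ := (Set.one_lt_ncard).1 h1
    let e : Fin 2 ↪ X := ⟨![a, b], by
      intro i j hij
      fin_cases i <;> fin_cases j <;> simp_all⟩
    have he : (P : Subgroup G) ≤ stabilizer G e := by
      intro g hg
      rw [mem_stabilizer_iff]
      ext i
      fin_cases i
      · exact ha hg
      · exact hb hg
    apply not_dvd_card_of_fixed P he
    rw [hcard]
    norm_num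

end Cfsg.Agent.H401
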