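import Cfsg.Agent.H401.Subsets
import Cfsg.Agent.H401.Thirteen

/-!
# Case B0: an alternating block orbit and a large one
-/

set_option autoImplicit false
open Subgroup MulAction
open scoped Pointwise

namespace Cfsg.Agent.H401

/-- `f1 ∣ l1` and the lower bound for `f1` force `l1 = 2`. -/
theorem numeric_cd {p f1 l1 : ℕ} (hp3 : 3 ≤ p) (hl : 2 ≤ l1) (hf : (p - 1) * (l1 - 2) + 1 ≤ f1)
    (hd : f1 ∣ l1) (hpf : ¬ p ∣ f1) : l1 = 2 ∧ f1 ≤ 2 ∧ 1 ≤ f1 := by
  have h1 : f1 ≤ l1 := Nat.le_of_dvd (by omega) hd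
  obtain ⟨k, rfl⟩ : ∃ k, l1 = k + 2 := ⟨l1 - 2, by omega⟩
  obtain ⟨q, rfl⟩ : ∃ q, p = q + 1 := ⟨p - 1, by omega⟩
  simp only [Nat.add_sub_cancel] at hf
  rcases Nat.eq_zero_or_pos k with rfl | hk
  · omega
  · exfalso
    obtain ⟨j, rfl⟩ : ∃ j, k = j + 1 := ⟨k - 1, by omega⟩
    have h4 : q * (j + 1) = q * j + q := by ring
    have h5 : 2 * j ≤ q * j := Nat.mul_le_mul_right _ (by omega)
    have hj : j = 0 := by omega
    subst hj
    have hq : q = 2 := by omega
    subst hq
    have : f1 = 3 := by omega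
    apply hpf
    rw [this]

variable {M : Type*} [Group M] [Finite M] {p : ℕ} [Fact p.Prime]

/-- An element acting as a given even permutation, a power of which is an `r`-element acting
nontrivially, and centralizing `P`. -/
theorem exists_r_element {Z : Type*} [MulAction M Z] {r : ℕ} [hr : Fact r.Prime] (y : M)
    (hy : ∃ z : Z, y • z ≠ z) (hyr : ∀ z : Z, y ^ r • z = z) :
    ∃ c ∈ zpowers y, (∃ t, orderOf c = r ^ t) ∧ ∃ z : Z, c • z ≠ z := by
  obtain ⟨u, hu⟩ : ∃ u, orderOf y = r ^ (orderOf y).factorization r * u :=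
    ⟨_, (Nat.ordProj_mul_ordCompl_eq_self (orderOf y) r).symm⟩
  have hpos : 0 < orderOf y := orderOf_pos y
  have hu0 : 0 < u := by
    rcases Nat.eq_zero_or_pos u with h | h
    · rw [h, mul_zero] at hu
      omega
    · exact h
  have hucop : Nat.Coprime r u := by
    rw [Nat.Prime.coprime_iff_not_dvd hr.out]
    rintro ⟨v, hv⟩
    rw [hv, ← mul_assoc, ← pow_succ] at hu
    have h1 : r ^ ((orderOf y).factorization r + 1) ∣ orderOf y := ⟨v, hu⟩
    have h2 := (hr.out.pow_dvd_iff_le_factorization hpos.ne').1 h1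
    omega
  refine ⟨y ^ u, pow_mem (mem_zpowers y) u, ⟨(orderOf y).factorization r, ?_⟩, ?_⟩
  · rw [orderOf_pow_of_dvd hu0.ne' ⟨_, by rw [mul_comm]; exact hu⟩]
    conv_lhs => rw [hu]
    exact Nat.mul_div_cancel _ hu0
  · by_contra hcon
    push Not at hcon
    obtain ⟨z, hz⟩ := hy
    apply hz
    -- `y` is a product of powers of `y ^ r` and `y ^ u`
    have hrs : y ^ r ∈ stabilizer M z := hyr z
    have hus : y ^ u ∈ stabilizer M z := hcon z
    have hb := Nat.gcd_eq_gcd_ab r u
    rw [Nat.Coprime.gcd_eq_one hucop] at hb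
    have h1 : y = (y ^ r) ^ (Nat.gcdA r u) * (y ^ u) ^ (Nat.gcdB r u) := by
      rw [← zpow_natCast, ← zpow_natCast, ← zpow_mul, ← zpow_mul, ← zpow_add, ← hb]
      simp
    rw [← mem_stabilizer_iff, h1]
    exact mul_mem (zpow_mem hrs _) (zpow_mem hus _)

/-- Elements commuting with a `p`-group modulo a normal `p'`-group can be corrected to commute. -/
theorem exists_commuting {P K : Subgroup M} (hP : IsPGroup p P) (hK : K.Normal)
    (hpK : ¬ p ∣ Nat.card K) {x : M} (hx : ∀ g ∈ P, x⁻¹ * g * x * g⁻¹ ∈ K) :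
    ∃ k ∈ K, ∀ g ∈ P, (x * k) * g = g * (x * k) := by
  let P' : Subgroup (MulAut M) := P.map MulAut.conj
  have hP' : IsPGroup p P' := hP.map _
  let S : Set M := {y | x⁻¹ * y ∈ K}
  have hS : ∀ m ∈ P', ∀ y ∈ S, m • y ∈ S := by
    rintro _ ⟨g, hg, rfl⟩ y hy
    change x⁻¹ * (g * y * g⁻¹) ∈ K
    have h1 : x⁻¹ * (g * y * g⁻¹) = (x⁻¹ * g * x * g⁻¹) * (g * (x⁻¹ * y) * g⁻¹) := by group
    rw [h1]
    exact K.mul_mem (hx g hg) (hK.conj_mem _ hy g)
  have h1 := ncard_modEq (X := M) hP' S hS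
  have h2 : S.ncard = Nat.card K := by
    have : S = (fun k => x * k) '' (K : Set M) := by
      ext y
      simp only [S, Set.mem_ofPred_eq, Set.mem_image, SetLike.mem_coe]
      constructor
      · intro hy
        exact ⟨x⁻¹ * y, hy, by simp⟩
      · rintro ⟨k, hk, rfl⟩
        simpa using hk
    rw [this, Set.ncard_image_of_injective _ (mul_right_injective x)]
    rfl
  rw [h2] at h1
  have h3 : (fs P' M ∩ S).Nonempty := by
    rw [Set.nonempty_iff_ne_empty]
    intro h
    rw [h, Set.ncard_empty] at h1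
    exact hpK ((Nat.modEq_zero_iff_dvd).1 h1)
  obtain ⟨y, hy1, hy2⟩ := h3
  refine ⟨x⁻¹ * y, hy2, ?_⟩
  intro g hg
  have h4 : g * y * g⁻¹ = y := hy1 (mem_map_of_mem _ hg)
  rw [mul_inv_cancel_left]
  rw [mul_inv_eq_iff_eq_mul] at h4
  exact h4.symm

theorem isPGroup_zpowers {r t : ℕ} {c : M} (h : orderOf c = r ^ t) : IsPGroup r (zpowers c) := by
  apply IsPGroup.of_card (n := t)
  rw [Nat.card_zpowers, h]

theorem mem_normalCore_of_fs {V : Subgroup M} {c : M} (h : ∀ y : M ⧸ V, c • y = y) :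
    c ∈ V.normalCore := by
  rw [normalCore_eq_ker, MonoidHom.mem_ker]
  ext y
  exact h y

theorem smul_of_mem_normalCore {V : Subgroup M} {c : M} (h : c ∈ V.normalCore) (y : M ⧸ V) :
    c • y = y := by
  rw [normalCore_eq_ker, MonoidHom.mem_ker] at h
  have := DFunLike.congr_fun h y
  exact this

/-- **Case B0.** -/
theorem IsAltCo.false_of_large {P : Sylow p M} {U : Subgroup M} {a : ℕ} (h : IsAltCo P U a)
    (hp2 : p ≠ 2) (hM : PGen p M) (hP : Nat.card P = p) {V : Subgroup M} (hV : IsCoatom V)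
    {f1 l1 : ℕ} (hf1 : (fs (P : Subgroup M) (M ⧸ V)).ncard = f1)
    (hV1 : Nat.card (M ⧸ V) = f1 + p * l1) (hl1 : 2 ≤ l1) (hf : (p - 1) * (l1 - 2) + 1 ≤ f1)
    (hnum : l1 = 2 → p ≤ a + f1) : False := by
  classical
  have hp : p.Prime := Fact.out
  have hp3 : 3 ≤ p := by
    have := hp.two_le
    omega
  have hcore := h.core_not_le hp2 hM hP hV hf1 hV1 hl1 hf
  have hKn : U.normalCore.Normal := normalCore_normal U
  have hKne := normalCore_ne_top h.coatom.1
  have hpK := not_dvd_card_of_normal hM hP hKn hKne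
  have hsup : U.normalCore ⊔ V = ⊤ := by
    apply hV.2
    rw [right_lt_sup]
    exact hcore
  -- `K` is transitive
  have htr1 : ∀ y : M ⧸ V, ∃ k ∈ U.normalCore, k • (((1 : M) : M ⧸ V)) = y := by
    intro y
    obtain ⟨g, rfl⟩ := QuotientGroup.mk_surjective y
    have hg : g ∈ (↑(U.normalCore ⊔ V) : Set M) := by rw [hsup]; trivial
    rw [Subgroup.normal_mul] at hg
    obtain ⟨k, hk, v, hv, rfl⟩ := hg
    refine ⟨k, hk, ?_⟩
    change ((k * 1 : M) : M ⧸ V) = ((k * v : M) : M ⧸ V)
    rw [mul_one, QuotientGroup.eq]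
    simpa using hv
  have htr : ∀ x y : M ⧸ V, ∃ k ∈ U.normalCore, k • x = y := by
    intro x y
    obtain ⟨k, hk, rfl⟩ := htr1 x
    obtain ⟨k', hk', rfl⟩ := htr1 y
    exact ⟨k' * k⁻¹, mul_mem hk' (inv_mem hk), by rw [smul_smul, inv_mul_cancel_right]⟩
  have hnefix : (fs (P : Subgroup M) (M ⧸ V)).Nonempty := by
    apply Set.nonempty_of_ncard_ne_zero
    rw [hf1]
    omega
  have hdvd := ncard_fs_dvd (X := M ⧸ V) P.isPGroup' hpK
    (by rw [normalizer_eq_top_iff.2 hKn]; exact le_top) htr hnefix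
  rw [hf1, hV1] at hdvd
  have hpf : ¬ p ∣ f1 := by
    obtain ⟨y, hy⟩ := hnefix
    have h1 := not_dvd_card_of_fixed P hy
    rw [hV1] at h1
    intro h2
    exact h1 (dvd_add h2 (dvd_mul_right _ _))
  have hdvd2 : f1 ∣ l1 := by
    have h1 : f1 ∣ p * l1 := (Nat.dvd_add_right dvd_rfl).1 hdvd
    exact Nat.Coprime.dvd_of_dvd_mul_left ((Nat.coprime_comm.1 ((hp.coprime_iff_not_dvd).2 hpf))) h1
  obtain ⟨hl2, hf12, hf11⟩ := numeric_cd hp3 hl1 hf hdvd2 hpf
  have hapf := hnum hl2
  have halt := h.lt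
  have hKV : V.normalCore ≤ U.normalCore :=
    h.normal_le hp2 hM hP (normalCore_normal V) (normalCore_ne_top hV.1)
  have := Fintype.ofFinite M
  have := Fintype.ofFinite (M ⧸ U)
  have := Fintype.ofFinite (M ⧸ V)
  have hr := h.range hp2 hM hP
  subst hl2
  rcases Nat.lt_or_ge p 5 with hp5 | hp5
  · -- `p = 3`
    have hp3' : p = 3 := by
      interval_cases p
      · rfl
      · exact absurd hp (by norm_num)
    subst hp3'
    have ha : a = 2 := by
      have := h.crit.two_le
      omega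
    subst ha
    have hZ : Nat.card (M ⧸ U) = 5 := h.card
    have h5 : Fact (Nat.Prime 5) := ⟨by norm_num⟩
    have hnt : Nontrivial (M ⧸ U) := by
      rw [← Finite.one_lt_card_iff_nontrivial, hZ]
      norm_num
    have hA : Nat.card (alternatingGroup (M ⧸ U)) = 60 := by
      have h7 := two_mul_nat_card_alternatingGroup (α := M ⧸ U)
      rw [Nat.card_perm, hZ] at h7
      have h71 : (5 : ℕ).factorial = 120 := by norm_num [Nat.factorial]
      rw [h71] at h7
      omega
    obtain ⟨σ, hσ⟩ := exists_prime_orderOf_dvd_card' (G := alternatingGroup (M ⧸ U)) 5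
      (by rw [hA]; norm_num)
    have hσr : (σ : Equiv.Perm (M ⧸ U)) ∈ (toPermHom M (M ⧸ U)).range := by
      rw [hr]
      exact σ.2
    obtain ⟨y, hy⟩ := hσr
    have hσo : orderOf (σ : Equiv.Perm (M ⧸ U)) = 5 := by rw [Subgroup.orderOf_coe, hσ]
    obtain ⟨c, -, ⟨t, ht⟩, z, hz⟩ := exists_r_element (Z := M ⧸ U) (r := 5) y
      (by
        by_contra hcon
        push Not at hcon
        have : toPermHom M (M ⧸ U) y = 1 := by
          ext z
          exact hcon z
        rw [← hy, this, orderOf_one] at hσo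
        norm_num at hσo)
      (by
        intro z
        have : toPermHom M (M ⧸ U) (y ^ 5) = 1 := by
          rw [map_pow, hy, ← hσo, pow_orderOf_eq_one]
        exact DFunLike.congr_fun this z)
    have hcV : toPermHom M (M ⧸ V) c ≠ 1 := by
      intro hc
      have : c ∈ V.normalCore := by rw [normalCore_eq_ker]; exact hc
      exact hz (smul_of_mem_normalCore (hKV this) z)
    have hYc : Fintype.card (M ⧸ V) = f1 + 6 := by
      rw [← Nat.card_eq_fintype_card, hV1]
    have hco : orderOf (toPermHom M (M ⧸ V) c) = 5 := by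
      have h1 : orderOf (toPermHom M (M ⧸ V) c) ∣ 5 ^ t := by
        rw [← ht]
        exact orderOf_map_dvd _ _
      obtain ⟨s, -, hs⟩ := (Nat.dvd_prime_pow h5.out).1 h1
      have h2 : orderOf (toPermHom M (M ⧸ V) c) ∣ (8 : ℕ).factorial := by
        have h3 : orderOf (toPermHom M (M ⧸ V) c) ∣ Nat.card (Equiv.Perm (M ⧸ V)) :=
          orderOf_dvd_natCard _
        rw [Nat.card_perm, Nat.card_eq_fintype_card, hYc] at h3
        exact h3.trans (Nat.factorial_dvd_factorial (by omega))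
      rcases s with _ | _ | s
      · exfalso
        apply hcV
        rwa [pow_zero, orderOf_eq_one_iff] at hs
      · simpa using hs
      · exfalso
        rw [hs, pow_succ, pow_succ] at h2
        have h3 : 25 ∣ (8 : ℕ).factorial := by
          refine dvd_trans ⟨5 ^ s, ?_⟩ h2
          ring
        norm_num [Nat.factorial] at h3
    have hcyc : (toPermHom M (M ⧸ V) c).IsCycle := by
      apply Equiv.Perm.isCycle_of_prime_order'
      · rw [hco]; norm_num
      · rw [hco, hYc]; omega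
    have hsupp : (toPermHom M (M ⧸ V) c).support.card = 5 := by
      rw [← hcyc.orderOf, hco]
    have hprim : IsPreprimitive (toPermHom M (M ⧸ V)).range (M ⧸ V) := by
      have hntV : Nontrivial (M ⧸ V) := by
        rw [← Finite.one_lt_card_iff_nontrivial, hV1]
        omega
      have h1 : IsPreprimitive M (M ⧸ V) := by
        rw [← isCoatom_stabilizer_iff_preprimitive M ((1 : M) : M ⧸ V), stabilizer_mk_one]
        exact hV
      exact IsPreprimitive.of_surjective (M := M) (φ := (toPermHom M (M ⧸ V)).rangeRestrict)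
        (f := { toFun := id, map_smul' := fun _ _ => rfl }) Function.surjective_id
    have hle : (toPermHom M (M ⧸ V)).range ≤ alternatingGroup (M ⧸ V) := by
      rintro _ ⟨d, rfl⟩
      exact sign_eq_one hp2 hM d
    have hrV : (toPermHom M (M ⧸ V)).range = alternatingGroup (M ⧸ V) := by
      apply le_antisymm hle
      rcases hf12.eq_or_lt with h2 | h2
      · exact Cfsg.Agent.S0713.result _ hprim (by norm_num) (by omega) (by omega) hcyc hsupp
          ⟨c, rfl⟩
      · exact (Cfsg.Agent.H529.TwinCycle.eq_alternating_seven (by omega) hle hprim hcyc hsupp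
          ⟨c, rfl⟩).ge
    apply hcore
    exact (normal_le_of_range hV.1 (by rw [hV1]; omega) hrV hM hP hKn hKne).trans
      (normalCore_le V)
  · -- `p ≥ 5`
    have ha3 : 3 ≤ a := by omega
    have h3 : Fact (Nat.Prime 3) := ⟨by norm_num⟩
    have hcard3 : 2 < (fs (P : Subgroup M) (M ⧸ U)).ncard := by rw [h.fix]; omega
    obtain ⟨z1, hz1, z2, hz2, z3, hz3, h12, h13, h23⟩ := (Set.two_lt_ncard).1 hcard3
    let τ : Equiv.Perm (M ⧸ U) := Equiv.swap z1 z2 * Equiv.swap z1 z3
    have hτ3 : τ.IsThreeCycle := Equiv.Perm.isThreeCycle_swap_mul_swap_same h12 h13 h23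
    have hτr : τ ∈ (toPermHom M (M ⧸ U)).range := by
      rw [hr]
      exact hτ3.mem_alternatingGroup
    obtain ⟨x, hx⟩ := hτr
    have hcomm : ∀ g ∈ (P : Subgroup M), toPermHom M (M ⧸ U) g * τ = τ * toPermHom M (M ⧸ U) g := by
      intro g hg
      have e1 : toPermHom M (M ⧸ U) g z1 = z1 := hz1 hg
      have e2 : toPermHom M (M ⧸ U) g z2 = z2 := hz2 hg
      have e3 : toPermHom M (M ⧸ U) g z3 = z3 := hz3 hg
      have a1 : toPermHom M (M ⧸ U) g * Equiv.swap z1 z2 =
          Equiv.swap z1 z2 * toPermHom M (M ⧸ U) g := by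
        rw [Equiv.mul_swap_eq_swap_mul, e1, e2]
      have a2 : toPermHom M (M ⧸ U) g * Equiv.swap z1 z3 =
          Equiv.swap z1 z3 * toPermHom M (M ⧸ U) g := by
        rw [Equiv.mul_swap_eq_swap_mul, e1, e3]
      simp only [τ]
      rw [← mul_assoc, a1, mul_assoc, a2, mul_assoc]
    obtain ⟨k, hk, hky⟩ := exists_commuting P.isPGroup' hKn hpK (x := x) (by
      intro g hg
      rw [normalCore_eq_ker, MonoidHom.mem_ker, map_mul, map_mul, map_mul, map_inv, map_inv, hx]
      rw [mul_assoc τ⁻¹, hcomm g hg]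
      group)
    have hyτ : toPermHom M (M ⧸ U) (x * k) = τ := by
      rw [normalCore_eq_ker, MonoidHom.mem_ker] at hk
      rw [map_mul, hk, mul_one, hx]
    obtain ⟨c, hc, ⟨t, ht⟩, z, hz⟩ := exists_r_element (Z := M ⧸ U) (r := 3) (x * k)
      (by
        refine ⟨z1, ?_⟩
        change toPermHom M (M ⧸ U) (x * k) z1 ≠ z1
        rw [hyτ]
        intro h4
        have h5 := hτ3.isCycle
        simp only [τ, Equiv.Perm.mul_apply, Equiv.swap_apply_left] at h4
        rw [Equiv.swap_apply_of_ne_of_ne h13.symm h23.symm] at h4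
        exact h13 h4.symm)
      (by
        intro z
        have : toPermHom M (M ⧸ U) ((x * k) ^ 3) = 1 := by
          rw [map_pow, hyτ, ← hτ3.orderOf, pow_orderOf_eq_one]
        exact DFunLike.congr_fun this z)
    -- `c` commutes with `P`
    have hcP : ∀ b ∈ zpowers c, ∀ g ∈ (P : Subgroup M), b * g = g * b := by
      intro b hb g hg
      have h4 : zpowers c ≤ zpowers (x * k) := zpowers_le.2 hc
      obtain ⟨n, rfl⟩ := h4 hb
      exact (Commute.zpow_left (show Commute (x * k) g from hky g hg) n)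
    have hCp := isPGroup_zpowers ht
    have hinvP : ∀ b ∈ zpowers c, ∀ y ∈ fs (P : Subgroup M) (M ⧸ V),
        b • y ∈ fs (P : Subgroup M) (M ⧸ V) := by
      intro b hb y hy g hg
      rw [mem_stabilizer_iff, smul_smul, ← hcP b hb g hg, mul_smul]
      congr 1
      exact hy hg
    have hinvS : ∀ b ∈ zpowers c, ∀ y ∈ (fs (P : Subgroup M) (M ⧸ V))ᶜ,
        b • y ∈ (fs (P : Subgroup M) (M ⧸ V))ᶜ := by
      intro b hb y hy h4
      apply hy
      have := hinvP b⁻¹ (inv_mem hb) _ h4
      rwa [inv_smul_smul] at this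
    have hinvC : ∀ g ∈ (P : Subgroup M), ∀ y ∈ fs (zpowers c) (M ⧸ V),
        g • y ∈ fs (zpowers c) (M ⧸ V) := by
      intro g hg y hy b hb
      rw [mem_stabilizer_iff, smul_smul, hcP b hb g hg, mul_smul]
      congr 1
      exact hy hb
    have hScard : ((fs (P : Subgroup M) (M ⧸ V))ᶜ).ncard = p * 2 := by
      have := Set.ncard_add_ncard_compl (fs (P : Subgroup M) (M ⧸ V))
      rw [hf1, hV1] at this
      omega
    have hm1 := ncard_modEq (X := M ⧸ V) hCp _ hinvS
    rw [hScard] at hm1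
    set A := fs (zpowers c) (M ⧸ V) ∩ (fs (P : Subgroup M) (M ⧸ V))ᶜ with hA
    have hm2 := ncard_modEq (X := M ⧸ V) P.isPGroup' A (by
      rintro g hg y ⟨hy1, hy2⟩
      refine ⟨hinvC g hg y hy1, ?_⟩
      intro h4
      apply hy2
      have h5 : g⁻¹ • (g • y) = g • y := h4 (inv_mem hg)
      rw [inv_smul_smul] at h5
      rw [h5]
      exact h4)
    have hempty : fs (P : Subgroup M) (M ⧸ V) ∩ A = ∅ := by
      ext y
      simp only [hA, Set.mem_inter_iff, Set.mem_compl_iff, Set.mem_empty_iff_false, iff_false]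
      tauto
    rw [hempty, Set.ncard_empty] at hm2
    obtain ⟨j, hj⟩ := (Nat.modEq_zero_iff_dvd).1 hm2
    have hAle : A.ncard ≤ p * 2 := by
      rw [← hScard]
      exact Set.ncard_le_ncard Set.inter_subset_right (Set.toFinite _)
    have hj2 : j ≤ 2 := by
      rw [hj] at hAle
      exact Nat.le_of_mul_le_mul_left hAle hp.pos
    have hp3n : ¬ 3 ∣ p := by
      intro h4
      have := (Nat.prime_dvd_prime_iff_eq (by norm_num) hp).1 h4
      omega
    have hj' : j = 2 := by
      rw [hj] at hm1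
      have h4 : p * 2 % 3 = p * j % 3 := hm1
      interval_cases j
      · omega
      · omega
      · rfl
    have hAeq : A = (fs (P : Subgroup M) (M ⧸ V))ᶜ := by
      apply Set.eq_of_subset_of_ncard_le Set.inter_subset_right _ (Set.toFinite _)
      rw [hScard, hj, hj']
    have hm3 := ncard_modEq (X := M ⧸ V) hCp _ hinvP
    rw [hf1] at hm3
    have hBle : (fs (zpowers c) (M ⧸ V) ∩ fs (P : Subgroup M) (M ⧸ V)).ncard ≤ f1 := by
      rw [← hf1]
      exact Set.ncard_le_ncard Set.inter_subset_right (Set.toFinite _)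
    have hBcard : (fs (zpowers c) (M ⧸ V) ∩ fs (P : Subgroup M) (M ⧸ V)).ncard = f1 := by
      have h4 : f1 % 3 = (fs (zpowers c) (M ⧸ V) ∩ fs (P : Subgroup M) (M ⧸ V)).ncard % 3 := hm3
      omega
    have hBeq : fs (zpowers c) (M ⧸ V) ∩ fs (P : Subgroup M) (M ⧸ V) =
        fs (P : Subgroup M) (M ⧸ V) := by
      apply Set.eq_of_subset_of_ncard_le Set.inter_subset_right _ (Set.toFinite _)
      rw [hf1, hBcard]
    have hall : ∀ y : M ⧸ V, c • y = y := by
      intro y
      rw [← fs_zpowers]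
      by_cases hy : y ∈ fs (P : Subgroup M) (M ⧸ V)
      · rw [← hBeq] at hy
        exact hy.1
      · have : y ∈ A := by rw [hAeq]; exact hy
        exact this.1
    exact hz (smul_of_mem_normalCore (hKV (mem_normalCore_of_fs hall)) z)

end Cfsg.Agent.H401
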