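import Cfsg.Agent.H401.CaseA0
import Cfsg.Agent.H401.Thirteen

/-!
# Case A: all the orbits have one nontrivial block orbit
-/

set_option autoImplicit false
open Subgroup MulAction
open scoped Pointwise

namespace Cfsg.Agent.H401

universe u

theorem not_altCrit {p a : ℕ} (h : ¬ AltCrit p a) : a ≤ 2 ∧ ((p = 3 ∨ p = 5) → a ≤ 1) := by
  unfold AltCrit at h
  omega

theorem numericA1 {p : ℕ} (hp : p.Prime) (hp3 : 3 ≤ p) {f l : ℕ} {ι : Type*} [Fintype ι]
    (a c b : ι → ℕ) (hc1 : ∀ i, c i = 1) (hcrit : ∀ i, ¬ AltCrit p (a i))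
    (hsc : ∑ i, b i * c i = l) (hsa : f = 1 + ∑ i, b i * a i) (hf : p + 1 ≤ f)
    (hf' : (p - 1) * l + 2 ≤ f + 2 * (p - 1)) (hl : 2 ≤ l) : p = 3 ∧ l = 3 ∧ f = 4 := by
  have hsb : ∑ i, b i = l := by
    rw [← hsc]
    apply Finset.sum_congr rfl
    intro i _
    rw [hc1 i, mul_one]
  have h2 : ∑ i, b i * a i ≤ 2 * l := by
    rw [← hsb, Finset.mul_sum]
    apply Finset.sum_le_sum
    intro i _
    rw [mul_comm]
    exact Nat.mul_le_mul_right _ (not_altCrit (hcrit i)).1
  have h1 : (p = 3 ∨ p = 5) → ∑ i, b i * a i ≤ l := by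
    intro h
    rw [← hsb]
    apply Finset.sum_le_sum
    intro i _
    exact (Nat.mul_le_mul_left _ ((not_altCrit (hcrit i)).2 h)).trans (by rw [mul_one])
  rcases Nat.lt_or_ge p 7 with h7 | h7
  · have h35 : p = 3 ∨ p = 5 := by
      interval_cases p
      · left; rfl
      · exact absurd hp (by norm_num)
      · right; rfl
      · exact absurd hp (by norm_num)
    have h1 := h1 h35
    rcases h35 with rfl | rfl
    · omega
    · omega
  · exfalso
    obtain ⟨q, rfl⟩ : ∃ q, p = q + 7 := ⟨p - 7, by omega⟩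
    have e1 : (q + 7 - 1) * l = q * l + 6 * l := by
      rw [show q + 7 - 1 = q + 6 by omega]
      ring
    rw [e1] at hf'
    have e2 : q * 2 ≤ q * l := Nat.mul_le_mul_left _ hl
    omega

variable {G : Type*} {X : Type u} [Group G] [Finite G] [MulAction G X] [Finite X] {p : ℕ}
  [Fact p.Prime]

theorem Dat.two_le {M : Type*} [Group M] [MulAction M X] {P : Sylow p M} {β : X}
    {f l : ℕ} {ι : Type u} [Fintype ι] (d : Dat p P β f l ι) : 2 ≤ l := by
  have h1 := d.sum_a
  have h2 := d.f_ge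
  have hne : Nonempty ι := by
    by_contra hne
    rw [not_nonempty_iff] at hne
    rw [Finset.univ_eq_empty, Finset.sum_empty] at h1
    have := (Fact.out : p.Prime).pos
    omega
  obtain ⟨i⟩ := hne
  have h3 := d.c_pos i
  have h4 := d.c_lt i
  omega

theorem caseA [IsPretransitive G X] (hp2 : p ≠ 2) {P : Sylow p G}
    (hPc : Nat.card P = p) {β : X}
    (hP : (P : Subgroup G) ≤ stabilizer G β) {ι : Type u} [Fintype ι] {f l : ℕ}
    (hf : (fs (P : Subgroup G) X).ncard = f) (hX : Nat.card X = f + p * l)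
    (d : Dat p (P.subtype (le_plus hP)) β f l ι) (hc1 : ∀ i, d.c i = 1) : False := by
  have hp : p.Prime := Fact.out
  have hp3 : 3 ≤ p := by
    have := hp.two_le
    omega
  by_cases h : ∃ i, AltCrit p (d.a i)
  · obtain ⟨i0, hcrit⟩ := h
    exact ls_false hPc hf hX d.two_le d.f_ge (ls_of_dat hp2 hPc hP d hc1 hcrit hX)
  · push Not at h
    obtain ⟨h1, h2, h3⟩ := numericA1 hp hp3 d.a d.c d.b hc1 h d.sum_c d.sum_a d.f_ge d.f_ge' d.two_le
    refine no_thirteen (by rw [hX, h1, h2, h3]) h1 P (by rw [hf, h3])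

end Cfsg.Agent.H401
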