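import Cfsg.Agent.H401.L5

/-!
# The linear space case: the hypotheses
-/

set_option autoImplicit false
open Subgroup MulAction
open scoped Pointwise

namespace Cfsg.Agent.H401

universe u

section Mlevel

variable {M : Type*} {X : Type u} [Group M] [Finite M] [MulAction M X] [Finite X] {p : ℕ}
  [Fact p.Prime]

theorem mlevel (hp2 : p ≠ 2) (hM : PGen p M) {P : Sylow p M} (hPc : Nat.card P = p) {β : X}
    (hβ : ∀ m : M, m • β = β) {ι : Type u} [Fintype ι] {f l : ℕ}
    (d : Dat p P β f l ι) (hc1 : ∀ i, d.c i = 1) {i0 : ι}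
    (hcrit : AltCrit p (d.a i0)) (hX : Nat.card X = f + p * l) :
    (∀ ω : X, ω ≠ β → ∀ ω' : X, ω' ≠ β →
      ∃ m : M, plus p (stabilizer M ω') = MulAut.conj m • plus p (stabilizer M ω)) ∧
    (∀ ω : X, ω ≠ β → ∀ Q : Sylow p M,
      (Q : Subgroup M) ≤ normalizer (plus p (stabilizer M ω) : Set M) →
        (Q : Subgroup M) ≤ stabilizer M ω) ∧
    (∀ ω : X, ω ≠ β → (fs (plus p (stabilizer M ω)) X \ {β}).ncard = l) := by
  classical
  have hcard : ∀ i, Nat.card (M ⧸ d.U i) = d.a i + p := by
    intro i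
    rw [d.hc i, hc1 i, mul_one]
  have halt : ∀ i, d.a i < p := fun i => (d.bd i).1 (hc1 i)
  have hU0 : IsAltCo P (d.U i0) (d.a i0) := ⟨d.coatom i0, d.ha i0, hcard i0, halt i0, hcrit⟩
  have hconj := fun i => hU0.conj hp2 hM hPc (d.coatom i) (d.ha i) (hcard i) (halt i)
  have ha2 := hcrit.two_le
  obtain ⟨Q0, hQ0⟩ := exists_sylow_le (P := P) (U := d.U i0) (by rw [hU0.fix]; omega)
  -- the subgroups generated by the Sylow subgroups of the stabilizers
  have hst : ∀ i, plus p (stabilizer M (d.δ i)) = plus p (d.U i) := by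
    intro i
    apply le_antisymm (plus_mono (d.le i))
    rw [plus_le_iff]
    intro Q hQ
    exact le_plus (d.syl i Q hQ)
  have hK : ∀ ω : X, ω ≠ β →
      ∃ m : M, plus p (stabilizer M ω) = MulAut.conj m • plus p (d.U i0) := by
    intro ω hω
    obtain ⟨i, m, hm⟩ := d.cover ω hω
    obtain ⟨-, g, hg⟩ := hconj i
    refine ⟨m * g⁻¹, ?_⟩
    simp only at hm
    rw [← hm, stabilizer_smul', ← smul_plus, hst i, map_mul, mul_smul]
    congr 1
    rw [hg, ← smul_plus, map_inv, inv_smul_smul]
  have hne_smul : ∀ m : M, ∀ ω : X, ω ≠ β → m • ω ≠ β := by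
    intro m ω hω h
    apply hω
    rw [← hβ m] at h
    exact smul_left_cancel m h
  -- uniqueness of the coset
  have huniq : ∀ m m' : M,
      MulAut.conj m • plus p (d.U i0) = MulAut.conj m' • plus p (d.U i0) →
      (m : M ⧸ d.U i0) = (m' : M ⧸ d.U i0) := by
    intro m m' h
    rw [QuotientGroup.eq]
    apply mem_of_smul_plus_eq hM hU0.coatom hQ0
    rw [map_mul, mul_smul, ← h, map_inv, inv_smul_smul]
  have huniq' : ∀ m m' : M, (m : M ⧸ d.U i0) = (m' : M ⧸ d.U i0) →
      MulAut.conj m • plus p (d.U i0) = MulAut.conj m' • plus p (d.U i0) := by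
    intro m m' h
    rw [QuotientGroup.eq] at h
    have h1 : MulAut.conj (m⁻¹ * m') • plus p (d.U i0) = plus p (d.U i0) := by
      rw [smul_plus, smul_eq_of_mem h]
    rw [map_mul, mul_smul, map_inv, inv_smul_eq_iff] at h1
    exact h1.symm
  refine ⟨?_, ?_, ?_⟩
  · intro ω hω ω' hω'
    obtain ⟨m, hm⟩ := hK ω hω
    obtain ⟨m', hm'⟩ := hK ω' hω'
    refine ⟨m' * m⁻¹, ?_⟩
    rw [hm', hm, map_mul, mul_smul, map_inv, inv_smul_smul]
  · intro ω hω Q hQ
    obtain ⟨m, hm⟩ := hK ω hω
    have h1 : (Q : Subgroup M) ≤ MulAut.conj m • d.U i0 := by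
      intro x hx
      have h2 := hQ hx
      rw [mem_normalizer_iff_smul, hm, smul_smul, ← map_mul] at h2
      have h3 : MulAut.conj (m⁻¹ * (x * m)) • plus p (d.U i0) = plus p (d.U i0) := by
        rw [map_mul, mul_smul, h2, map_inv, inv_smul_smul]
      have h4 := mem_of_smul_plus_eq hM hU0.coatom hQ0 h3
      rw [mem_pointwise_smul_iff_inv_smul_mem, ← map_inv, MulAut.smul_def, MulAut.conj_apply,
        inv_inv, mul_assoc]
      exact h4
    have h2 := le_plus h1
    rw [← smul_plus, ← hm] at h2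
    exact h2.trans (plus_le _)
  · intro ω hω
    choose! μ hμ using hK
    let φ : X → M ⧸ d.U i0 := fun x => (μ x : M ⧸ d.U i0)
    have hφ : ∀ m : M, ∀ x ∈ ({β}ᶜ : Set X), φ (m • x) = m • φ x := by
      intro m x hx
      have hx' : x ≠ β := hx
      apply huniq
      rw [← hμ _ (hne_smul m x hx'), stabilizer_smul', ← smul_plus, hμ x hx', smul_smul,
        ← map_mul]
      rfl
    have hcount := ncard_preimage ({β}ᶜ : Set X) (fun m x hx => hne_smul m x hx) φ hφ (φ ω)
      Set.univ
    simp only [Set.mem_univ, and_true, Set.ofPred_mem_eq, Set.ncard_univ, hcard] at hcount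
    have hfib : {x | x ∈ ({β}ᶜ : Set X) ∧ φ x = φ ω} =
        fs (plus p (stabilizer M ω)) X \ {β} := by
      ext x
      simp only [Set.mem_ofPred_eq, Set.mem_compl_iff, Set.mem_singleton_iff, Set.mem_diff]
      rw [and_comm]
      apply and_congr_left
      intro hx
      constructor
      · intro h
        have h1 := huniq' _ _ h
        rw [← hμ x hx, ← hμ ω hω] at h1
        rw [mem_fs, ← h1]
        exact plus_le _
      · intro h
        apply huniq
        rw [← hμ x hx, ← hμ ω hω]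
        have h1 : plus p (stabilizer M ω) ≤ plus p (stabilizer M x) :=
          le_plus_iff_of_plus_le.1 h
        symm
        refine eq_of_smul_le (g := μ x * (μ ω)⁻¹) ?_ h1
        rw [hμ x hx, hμ ω hω, map_mul, mul_smul, map_inv, inv_smul_smul]
    rw [hfib] at hcount
    have hcompl : ({β}ᶜ : Set X).ncard + 1 = f + p * l := by
      have := Set.ncard_add_ncard_compl ({β} : Set X)
      rw [Set.ncard_singleton] at this
      omega
    have hal : f = 1 + d.a i0 * l := by
      have e0 : ∑ i, d.b i * d.a i = d.a i0 * ∑ i, d.b i * d.c i := by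
        rw [Finset.mul_sum]
        apply Finset.sum_congr rfl
        intro i _
        rw [hc1 i, (hconj i).1]
        ring
      have e1 := d.sum_a
      rw [e0, d.sum_c] at e1
      exact e1
    have hp : 0 < p := (Fact.out : p.Prime).pos
    apply Nat.eq_of_mul_eq_mul_right (show 0 < d.a i0 + p by omega)
    rw [← hcount]
    have e1 : l * (d.a i0 + p) = d.a i0 * l + p * l := by ring
    omega

end Mlevel

variable {G : Type*} {X : Type u} [Group G] [Finite G] [MulAction G X] [Finite X] {p : ℕ}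
  [Fact p.Prime]

omit [Finite X] in
theorem DD_eq_map {P : Sylow p G} {β : X} (hP : (P : Subgroup G) ≤ stabilizer G β) (ω : X) :
    DD p G β ω = (plus p (stabilizer (plus p (stabilizer G β)) ω)).map
      (plus p (stabilizer G β)).subtype := by
  rw [map_plus (le_plus hP)]
  unfold DD
  apply le_antisymm
  · rw [plus_le_iff]
    intro Q hQ
    apply le_plus
    intro x hx
    have hxM : x ∈ plus p (stabilizer G β) := le_plus (hQ.trans inf_le_left) hx
    exact ⟨⟨x, hxM⟩, (hQ hx).2, rfl⟩
  · apply plus_mono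
    rintro _ ⟨x, hx, rfl⟩
    exact ⟨plus_le _ x.2, hx⟩

omit [Finite G] [Finite X] in
theorem card_subtype {P : Sylow p G} (hPc : Nat.card P = p) {M : Subgroup G}
    (hPM : (P : Subgroup G) ≤ M) : Nat.card (P.subtype hPM) = p :=
  (Nat.card_congr (subgroupOfEquivOfLe hPM).toEquiv).trans hPc

omit [Finite G] [Fact p.Prime] in
theorem smul_map_subtype {M : Subgroup G} (m : M) (K : Subgroup M) :
    (MulAut.conj m • K).map M.subtype = MulAut.conj (m : G) • K.map M.subtype := by
  ext x
  simp only [mem_map, mem_pointwise_smul_iff_inv_smul_mem, ← map_inv, MulAut.smul_def,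
    MulAut.conj_apply, coe_subtype]
  constructor
  · rintro ⟨y, hy, rfl⟩
    exact ⟨_, hy, by simp⟩
  · rintro ⟨y, hy, hyx⟩
    refine ⟨m * y * m⁻¹, by simpa [mul_assoc] using hy, ?_⟩
    rw [Subgroup.coe_mul, Subgroup.coe_mul, hyx]
    simp [mul_assoc]

theorem fs_map_subtype {M : Subgroup G} (K : Subgroup M) :
    fs (K.map M.subtype) X = fs K X := by
  ext x
  rw [mem_fs, mem_fs]
  constructor
  · intro h k hk
    exact h ⟨k, hk, rfl⟩
  · rintro h _ ⟨k, hk, rfl⟩
    exact h hk

theorem ls_of_dat (hp2 : p ≠ 2) {P : Sylow p G}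
    (hPc : Nat.card P = p) {β : X}
    (hP : (P : Subgroup G) ≤ stabilizer G β) {ι : Type u} [Fintype ι] {f l : ℕ}
    (d : Dat p (P.subtype (le_plus hP)) β f l ι) (hc1 : ∀ i, d.c i = 1) {i0 : ι}
    (hcrit : AltCrit p (d.a i0)) (hX : Nat.card X = f + p * l) : LS p G l β := by
  obtain ⟨h1, h2, h3⟩ := mlevel hp2 (pGen_plus hP) (card_subtype hPc (le_plus hP))
    (fun m => plus_le _ m.2) d hc1 hcrit hX
  constructor
  · intro ω hω ω' hω'
    obtain ⟨m, hm⟩ := h1 ω hω ω' hω'
    refine ⟨m, ?_⟩
    rw [DD_eq_map hP, DD_eq_map hP, hm, smul_map_subtype]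
  · intro ω hω Q hQ hQ'
    have hQM : (Q : Subgroup G) ≤ plus p (stabilizer G β) := le_plus hQ
    have h4 := h2 ω hω (Q.subtype hQM) (by
      intro x hx
      rw [Sylow.coe_subtype, mem_subgroupOf] at hx
      have h5 := hQ' hx
      rw [mem_normalizer_iff_smul, DD_eq_map hP, ← smul_map_subtype] at h5
      rw [mem_normalizer_iff_smul]
      exact map_injective (subtype_injective _) h5)
    intro x hx
    have h5 : (⟨x, hQM hx⟩ : plus p (stabilizer G β)) ∈
        (Q.subtype hQM : Subgroup (plus p (stabilizer G β))) := by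
      rw [Sylow.coe_subtype, mem_subgroupOf]
      exact hx
    exact h4 h5
  · intro ω hω
    rw [DD_eq_map hP, fs_map_subtype]
    exact h3 ω hω

end Cfsg.Agent.H401
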