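import Mathlib

set_option autoImplicit false

namespace Cfsg.Agent.H401

/-- The bound of the main theorem for primitive actions with a Sylow subgroup of prime order. -/
def Bd (p f l : ℕ) : Prop :=
  (l = 1 → f < p) ∧ (2 ≤ l → f / p < ((p - 1) * (l - 1) + 1) / p)

theorem Bd.le_two {p f l : ℕ} (h : Bd p f l) (hp : 0 < p) (hl : 2 ≤ l) :
    f ≤ (p - 1) * (l - 1) := by
  have h1 := h.2 hl
  have h2 : f < p * (f / p + 1) := by
    rw [mul_add, mul_one]
    have := Nat.div_add_mod f p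
    have := Nat.mod_lt f hp
    omega
  have h3 : p * (((p - 1) * (l - 1) + 1) / p) ≤ (p - 1) * (l - 1) + 1 := Nat.mul_div_le _ _
  have h4 : p * (f / p + 1) ≤ p * (((p - 1) * (l - 1) + 1) / p) := Nat.mul_le_mul_left _ h1
  omega

theorem Bd.le {p f l : ℕ} (h : Bd p f l) (hp : 0 < p) (hl : 1 ≤ l) : f ≤ (p - 1) * l := by
  rcases hl.eq_or_lt with h1 | h1
  · have := h.1 h1.symm
    rw [← h1]
    omega
  · refine (h.le_two hp h1).trans ?_
    exact Nat.mul_le_mul_left _ (Nat.sub_le _ _)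

theorem not_Bd {p f l : ℕ} (h : ¬ Bd p f l) (hp : 0 < p) (hl : 1 ≤ l) (hf : ¬ p ∣ f) :
    p + 1 ≤ f ∧ (p - 1) * l + 2 ≤ f + 2 * (p - 1) := by
  rcases hl.eq_or_lt with h1 | h1
  · have h2 : ¬ f < p := fun h2 => h ⟨fun _ => h2, fun h3 => by omega⟩
    have h3 : f ≠ p := by
      rintro rfl
      exact hf dvd_rfl
    rw [← h1]
    omega
  · have h2 : ¬ (f / p < ((p - 1) * (l - 1) + 1) / p) := fun h2 =>
      h ⟨fun h3 => by omega, fun _ => h2⟩
    rw [not_lt] at h2
    obtain ⟨k, rfl⟩ : ∃ k, l = k + 2 := ⟨l - 2, by omega⟩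
    obtain ⟨q, rfl⟩ : ∃ q, p = q + 1 := ⟨p - 1, by omega⟩
    simp only [Nat.add_sub_cancel] at h2 ⊢
    have e1 : q * (k + 2 - 1) + 1 = (q + 1) + q * k := by
      have : k + 2 - 1 = k + 1 := by omega
      rw [this]
      ring
    rw [e1, Nat.add_div_left _ hp] at h2
    set Q := q * k / (q + 1) with hQ
    have h3 := Nat.div_add_mod (q * k) (q + 1)
    rw [← hQ] at h3
    have h4 := Nat.mod_lt (q * k) hp
    have h5 : (q + 1) * (Q + 1) ≤ (q + 1) * (f / (q + 1)) := Nat.mul_le_mul_left _ h2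
    have h6 := Nat.div_add_mod f (q + 1)
    have h7 : f % (q + 1) ≠ 0 := fun h => hf (Nat.dvd_of_mod_eq_zero h)
    have e2 : q * (k + 2) = q * k + 2 * q := by ring
    have e3 : (q + 1) * (Q + 1) = (q + 1) * Q + (q + 1) := by ring
    have e4 : 0 ≤ (q + 1) * Q := Nat.zero_le _
    omega

theorem Bd_pred {p f l : ℕ} (hf : ¬ p ∣ f) (h1 : Bd p (f - 1) l) :
    Bd p f l := by
  have hf0 : f ≠ 0 := by
    rintro rfl
    exact hf (dvd_zero _)
  obtain ⟨g, rfl⟩ : ∃ g, f = g + 1 := ⟨f - 1, by omega⟩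
  simp only [Nat.add_sub_cancel] at h1
  refine ⟨fun h2 => ?_, fun h2 => ?_⟩
  · have := h1.1 h2
    rcases (Nat.succ_le_of_lt this).eq_or_lt with h3 | h3
    · exfalso
      apply hf
      rw [← h3]
    · exact h3
  · have h3 := h1.2 h2
    have : (g + 1) / p = g / p := by
      rw [Nat.succ_div_of_not_dvd hf]
    rw [this]
    exact h3

theorem numeric {p : ℕ} (hp3 : 3 ≤ p) {f l : ℕ} (hl : 1 ≤ l) (hf : ¬ p ∣ f) (hB : ¬ Bd p f l)
    {ι : Type*} [Fintype ι] (a c b s : ι → ℕ) (hc : ∀ i, 1 ≤ c i) (hb : ∀ i, 0 < b i)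
    (hBd : ∀ i, Bd p (a i) (c i)) (E1 : f + p * ∑ i, s i = 1 + ∑ i, b i * a i)
    (E2 : f + p * l = 1 + ∑ i, b i * (a i + p * c i)) :
    (∀ i, s i = 0) ∧ p + 1 ≤ f ∧ (p - 1) * l + 2 ≤ f + 2 * (p - 1) ∧ (∀ i, c i < l) ∧
      ∑ i, b i * c i = l ∧ f = 1 + ∑ i, b i * a i ∧
      ∃ e : ι → ℕ, (∀ i, a i + e i = (p - 1) * c i) ∧ (∀ i, 2 ≤ c i → p - 1 ≤ e i) ∧
        ∑ i, b i * e i + f = (p - 1) * l + 1 := by
  classical
  obtain ⟨h1, h2⟩ := not_Bd hB (by omega) hl hf
  have he : ∀ i, ∃ e, a i + e = (p - 1) * c i := fun i =>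
    ⟨(p - 1) * c i - a i, by have := (hBd i).le (by omega) (hc i); omega⟩
  choose e he using he
  have hsum : ∑ i, b i * (a i + p * c i) = ∑ i, b i * a i + p * ∑ i, b i * c i := by
    rw [Finset.mul_sum, ← Finset.sum_add_distrib]
    apply Finset.sum_congr rfl
    intros
    ring
  have hsum2 : ∑ i, b i * a i + ∑ i, b i * e i = (p - 1) * ∑ i, b i * c i := by
    rw [Finset.mul_sum, ← Finset.sum_add_distrib]
    apply Finset.sum_congr rfl
    intro i _
    rw [← mul_add, he i]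
    ring
  rw [hsum] at E2
  set A := ∑ i, b i * a i
  set C := ∑ i, b i * c i with hC
  set E := ∑ i, b i * e i
  set S := ∑ i, s i with hS
  have hl2 : l = C + S := by
    have : p * l = p * (C + S) := by
      rw [mul_add]
      omega
    exact Nat.eq_of_mul_eq_mul_left (by omega) this
  have hS0 : S = 0 := by
    by_contra hne
    have hS1 : 1 ≤ S := Nat.one_le_iff_ne_zero.2 hne
    obtain ⟨q, rfl⟩ : ∃ q, p = q + 1 := ⟨p - 1, by omega⟩
    simp only [Nat.add_sub_cancel] at *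
    rw [hl2, mul_add] at h2
    have : q * 1 ≤ q * S := Nat.mul_le_mul_left _ hS1
    have e4 : (q + 1) * S = q * S + S := by ring
    omega
  rw [hS0] at hl2 E1
  have hs : ∀ i, s i = 0 := by
    intro i
    rw [hS, Finset.sum_eq_zero_iff] at hS0
    exact hS0 i (Finset.mem_univ i)
  have hclt : ∀ i, c i < l := by
    intro i
    have hle : C = b i * c i + ∑ j ∈ Finset.univ.erase i, b j * c j :=
      (Finset.add_sum_erase _ (fun j => b j * c j) (Finset.mem_univ i)).symm
    have hle2 : A = b i * a i + ∑ j ∈ Finset.univ.erase i, b j * a j :=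
      (Finset.add_sum_erase _ (fun j => b j * a j) (Finset.mem_univ i)).symm
    have hbi : c i ≤ b i * c i := Nat.le_mul_of_pos_left _ (hb i)
    by_contra hcon
    rw [not_lt] at hcon
    have hci := hc i
    have h3 : b i * c i = c i ∧ ∑ j ∈ Finset.univ.erase i, b j * c j = 0 := by
      omega
    have h4 : b i = 1 := by
      have h5 : b i * c i = 1 * c i := by rw [h3.1, one_mul]
      exact Nat.eq_of_mul_eq_mul_right hci h5
    have h6 : ∑ j ∈ Finset.univ.erase i, b j * a j = 0 := by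
      rw [Finset.sum_eq_zero_iff] at h3 ⊢
      intro j hj
      have := h3.2 j hj
      have h7 := hb j
      have h8 := hc j
      rcases Nat.mul_eq_zero.1 this with h9 | h9 <;> omega
    have hcl : c i = l := by omega
    have h7 : a i = f - 1 := by
      rw [h4] at hle2
      omega
    apply hB
    apply Bd_pred hf
    rw [← h7, ← hcl]
    exact hBd i
  refine ⟨hs, h1, h2, hclt, by omega, by omega, e, he, ?_, ?_⟩
  · intro i hi
    have h3 := (hBd i).le_two (by omega) hi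
    have h4 := he i
    obtain ⟨k, hk⟩ : ∃ k, c i = k + 1 := ⟨c i - 1, by omega⟩
    rw [hk] at h3 h4
    simp only [Nat.add_sub_cancel] at h3
    rw [mul_add, mul_one] at h4
    omega
  · rw [hl2, add_zero]
    omega

end Cfsg.Agent.H401
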