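import Cfsg.Agent.H401.Reps
import Cfsg.Agent.H401.Num

set_option autoImplicit false
open Subgroup MulAction
open scoped Pointwise

namespace Cfsg.Agent.H401

universe u

section

variable {M : Type*} [Group M] [Finite M] {p : ℕ} [Fact p.Prime]

/-- If a Sylow subgroup fixes everything, so does the whole group. -/
theorem stabilizer_eq_top {Z : Type*} [MulAction M Z] (hM : PGen p M) (P : Sylow p M)
    (h : fs (P : Subgroup M) Z = Set.univ) (z : Z) : stabilizer M z = ⊤ := by
  apply hM.eq_top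
  intro Q
  obtain ⟨m, rfl⟩ := MulAction.exists_smul_eq M P Q
  rw [← mem_fs, Sylow.coe_subgroup_smul]
  have : m⁻¹ • z ∈ fs (P : Subgroup M) Z := by rw [h]; trivial
  have h2 := (fs_smul (P : Subgroup M) m (m⁻¹ • z)).2 this
  rwa [smul_inv_smul] at h2

theorem one_le_of_card {Z : Type*} [MulAction M Z] [Finite Z] (hM : PGen p M) (P : Sylow p M)
    {z : Z} (hz : stabilizer M z ≠ ⊤) {c : ℕ}
    (h : Nat.card Z = (fs (P : Subgroup M) Z).ncard + p * c) : 1 ≤ c := by
  by_contra hc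
  have : c = 0 := by omega
  rw [this, mul_zero, add_zero] at h
  apply hz
  apply stabilizer_eq_top hM P
  apply Set.eq_of_subset_of_ncard_le (Set.subset_univ _) _ Set.finite_univ
  rw [Set.ncard_univ, h]

theorem stabilizer_mk_one (U : Subgroup M) : stabilizer M ((1 : M) : M ⧸ U) = U := by
  ext x
  rw [mem_stabilizer_iff]
  change ((x * 1 : M) : M ⧸ U) = _ ↔ _
  rw [mul_one, eq_comm, QuotientGroup.eq]
  simp

end

/-- The bound for coset actions of a fixed group. -/
def ZB (p : ℕ) {M : Type*} [Group M] (U : Subgroup M) : Prop :=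
  ∀ (P : Sylow p M) (l : ℕ), Nat.card (M ⧸ U) = (fs (P : Subgroup M) (M ⧸ U)).ncard + p * l →
    Bd p (fs (P : Subgroup M) (M ⧸ U)).ncard l

/-- The data describing the orbits of `M` different from `{β}` in a minimal counterexample. -/
structure Dat (p : ℕ) {M : Type*} {X : Type u} [Group M] [MulAction M X] (P : Sylow p M) (β : X)
    (f l : ℕ) (ι : Type u) [Fintype ι] where
  δ : ι → X
  U : ι → Subgroup M
  a : ι → ℕ
  c : ι → ℕ
  b : ι → ℕ
  e : ι → ℕ
  ne : ∀ i, δ i ≠ β
  cover : ∀ x, x ≠ β → ∃ i, x ∈ orbit M (δ i)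
  coatom : ∀ i, IsCoatom (U i)
  le : ∀ i, stabilizer M (δ i) ≤ U i
  ha : ∀ i, (fs (P : Subgroup M) (M ⧸ U i)).ncard = a i
  hc : ∀ i, Nat.card (M ⧸ U i) = a i + p * c i
  card_orbit : ∀ i, (orbit M (δ i)).ncard = b i * (a i + p * c i)
  fix_orbit : ∀ i, (fs (P : Subgroup M) X ∩ orbit M (δ i)).ncard = b i * a i
  c_pos : ∀ i, 1 ≤ c i
  b_pos : ∀ i, 0 < b i
  eq_of_b : ∀ i, b i = 1 → U i = stabilizer M (δ i)
  syl : ∀ i, ∀ Q : Sylow p M, (Q : Subgroup M) ≤ U i → (Q : Subgroup M) ≤ stabilizer M (δ i)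
  bd : ∀ i, Bd p (a i) (c i)
  c_lt : ∀ i, c i < l
  sum_c : ∑ i, b i * c i = l
  sum_a : f = 1 + ∑ i, b i * a i
  he : ∀ i, a i + e i = (p - 1) * c i
  e_ge : ∀ i, 2 ≤ c i → p - 1 ≤ e i
  sum_e : ∑ i, b i * e i + f = (p - 1) * l + 1
  f_ge : p + 1 ≤ f
  f_ge' : (p - 1) * l + 2 ≤ f + 2 * (p - 1)

theorem exists_dat {p : ℕ} [Fact p.Prime] (hp3 : 3 ≤ p) {M : Type*} {X : Type u} [Group M]
    [Finite M] [MulAction M X] [Finite X] (hM : PGen p M) (P : Sylow p M) (β : X)
    (hβ : ∀ m : M, m • β = β) (hβ' : ∀ x, x ≠ β → stabilizer M x ≠ ⊤)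
    (IH : ∀ U : Subgroup M, IsCoatom U → Nat.card (M ⧸ U) < Nat.card X → ZB p U)
    {f l : ℕ} (hf : (fs (P : Subgroup M) X).ncard = f) (hX : Nat.card X = f + p * l)
    (hl : 1 ≤ l) (hfp : ¬ p ∣ f) (hB : ¬ Bd p f l) :
    ∃ (ι : Type u) (_ : Fintype ι), Nonempty (Dat p P β f l ι) := by
  obtain ⟨ι, hι, δ, hδ, hcov, hsum⟩ := exists_reps (M := M) β hβ
  have hU : ∀ i, ∃ U : Subgroup M, IsCoatom U ∧ stabilizer M (δ i) ≤ U := by
    intro i
    rcases eq_top_or_exists_le_coatom (stabilizer M (δ i)) with h | h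
    · exact absurd h (hβ' _ (hδ i))
    · exact h
  choose U hU1 hU2 using hU
  have hcnt := fun i => orbit_count (X := X) P (hU2 i)
  choose b s hb hb1 hb2 hb3 hb4 using hcnt
  have hcc := fun i => exists_lc' (X := M ⧸ U i) P.isPGroup'
  choose c hc using hcc
  have hne : ∀ i, 1 ≤ c i := fun i =>
    one_le_of_card hM P (z := ((1 : M) : M ⧸ U i))
      (by rw [stabilizer_mk_one]; exact (hU1 i).1) (hc i)
  have hβf : β ∈ fs (P : Subgroup M) X := fun m _ => hβ m
  have E1 : f + p * ∑ i, s i =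
      1 + ∑ i, b i * (fs (P : Subgroup M) (M ⧸ U i)).ncard := by
    rw [← hf, hsum _ hβf, add_assoc, Finset.mul_sum, ← Finset.sum_add_distrib]
    congr 1
    apply Finset.sum_congr rfl
    intro i _
    rw [hb2 i]
  have E0 : Nat.card X = 1 + ∑ i, (orbit M (δ i)).ncard := by
    have := hsum Set.univ trivial
    simpa using this
  have E2 : f + p * l =
      1 + ∑ i, b i * ((fs (P : Subgroup M) (M ⧸ U i)).ncard + p * c i) := by
    rw [← hX, E0]
    congr 1
    apply Finset.sum_congr rfl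
    intro i _
    rw [hb1 i, hc i]
  have hsmall : ∀ i, Nat.card (M ⧸ U i) < Nat.card X := by
    intro i
    have h1 : Nat.card (M ⧸ U i) ≤ (orbit M (δ i)).ncard := by
      rw [hb1 i]
      exact Nat.le_mul_of_pos_left _ (hb i)
    have h2 : (orbit M (δ i)).ncard ≤ ∑ i, (orbit M (δ i)).ncard :=
      Finset.single_le_sum (f := fun i => (orbit M (δ i)).ncard) (fun _ _ => Nat.zero_le _)
        (Finset.mem_univ i)
    omega
  have hBd : ∀ i, Bd p (fs (P : Subgroup M) (M ⧸ U i)).ncard (c i) := fun i =>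
    IH (U i) (hU1 i) (hsmall i) P (c i) (hc i)
  obtain ⟨h0, h1, h2, h3, h4, h5, e, he1, he2, he3⟩ :=
    numeric hp3 hl hfp hB (fun i => (fs (P : Subgroup M) (M ⧸ U i)).ncard) c b s hne hb hBd E1 E2
  refine ⟨ι, hι, ⟨?_⟩⟩
  exact
    { δ := δ
      U := U
      a := fun i => (fs (P : Subgroup M) (M ⧸ U i)).ncard
      c := c
      b := b
      e := e
      ne := hδ
      cover := hcov
      coatom := hU1
      le := hU2
      ha := fun i => rfl
      hc := hc
      card_orbit := fun i => by rw [hb1 i, hc i]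
      fix_orbit := fun i => by
        have := hb2 i
        rw [h0 i] at this
        omega
      c_pos := hne
      b_pos := hb
      eq_of_b := hb3
      syl := fun i => hb4 i (h0 i)
      bd := hBd
      c_lt := h3
      sum_c := h4
      sum_a := h5
      he := he1
      e_ge := he2
      sum_e := he3
      f_ge := h1
      f_ge' := h2 }

end Cfsg.Agent.H401
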