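import Cfsg.Agent.H401.Sub

/-!
# Counting in equivariant maps
-/

set_option autoImplicit false
open Subgroup MulAction
open scoped Pointwise

namespace Cfsg.Agent.H401

section Fiber

variable {M X Z : Type*} [Group M] [MulAction M X] [MulAction M Z]

theorem ncard_fiber_smul (S : Set X) (hS : ∀ m : M, ∀ x ∈ S, m • x ∈ S) (φ : X → Z)
    (hφ : ∀ m : M, ∀ x ∈ S, φ (m • x) = m • φ x) (m : M) (z : Z) :
    {x | x ∈ S ∧ φ x = m • z}.ncard = {x | x ∈ S ∧ φ x = z}.ncard := by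
  have : {x | x ∈ S ∧ φ x = m • z} = (fun x => m • x) '' {x | x ∈ S ∧ φ x = z} := by
    ext x
    simp only [Set.mem_ofPred_eq, Set.mem_image]
    constructor
    · rintro ⟨hx, h⟩
      refine ⟨m⁻¹ • x, ⟨hS _ _ hx, ?_⟩, smul_inv_smul _ _⟩
      rw [hφ _ _ hx, h, inv_smul_smul]
    · rintro ⟨y, ⟨hy, h⟩, rfl⟩
      exact ⟨hS _ _ hy, by rw [hφ _ _ hy, h]⟩
  rw [this, Set.ncard_image_of_injective _ (MulAction.injective m)]

theorem ncard_preimage [Finite X] [Finite Z] [IsPretransitive M Z] (S : Set X)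
    (hS : ∀ m : M, ∀ x ∈ S, m • x ∈ S) (φ : X → Z)
    (hφ : ∀ m : M, ∀ x ∈ S, φ (m • x) = m • φ x) (z : Z) (T : Set Z) :
    {x | x ∈ S ∧ φ x ∈ T}.ncard = {x | x ∈ S ∧ φ x = z}.ncard * T.ncard := by
  classical
  have := Fintype.ofFinite X
  have := Fintype.ofFinite Z
  rw [Set.ncard_eq_toFinset_card' {x | x ∈ S ∧ φ x ∈ T}, Set.ncard_eq_toFinset_card' T,
    Finset.card_eq_sum_card_fiberwise (f := φ) (t := T.toFinset)]
  · rw [Finset.sum_const_nat (m := {x | x ∈ S ∧ φ x = z}.ncard), mul_comm]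
    intro w hw
    obtain ⟨m, rfl⟩ := MulAction.exists_smul_eq M z w
    rw [← ncard_fiber_smul S hS φ hφ m z, Set.ncard_eq_toFinset_card']
    congr 1
    ext x
    simp only [Finset.mem_filter, Set.mem_toFinset, Set.mem_ofPred_eq] at hw ⊢
    constructor
    · rintro ⟨⟨h1, h2⟩, h3⟩
      exact ⟨h1, h3⟩
    · rintro ⟨h1, h3⟩
      exact ⟨⟨h1, by rw [h3]; exact hw⟩, h3⟩
  · intro x hx
    simp only [Finset.mem_coe, Set.mem_toFinset, Set.mem_ofPred_eq] at hx ⊢
    exact hx.2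

/-- The quotient of an orbit by a subgroup above the stabilizer. -/
theorem exists_equi {δ : X} {U : Subgroup M} (h : stabilizer M δ ≤ U) :
    ∃ φ : X → M ⧸ U, φ δ = ((1 : M) : M ⧸ U) ∧
      ∀ m : M, ∀ x ∈ orbit M δ, φ (m • x) = m • φ x := by
  classical
  have key : ∀ a b : M, a • δ = b • δ → (a : M ⧸ U) = (b : M ⧸ U) := by
    intro a b hab
    rw [QuotientGroup.eq]
    apply h
    rw [mem_stabilizer_iff, mul_smul, ← hab, inv_smul_smul]
  let φ : X → M ⧸ U := fun x => if hx : x ∈ orbit M δ then ((Classical.choose hx : M) : M ⧸ U)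
    else ((1 : M) : M ⧸ U)
  have hφ : ∀ a : M, φ (a • δ) = (a : M ⧸ U) := by
    intro a
    have ha : a • δ ∈ orbit M δ := mem_orbit _ _
    simp only [φ, dif_pos ha]
    exact key _ _ (Classical.choose_spec ha)
  refine ⟨φ, ?_, ?_⟩
  · have := hφ 1
    rwa [one_smul] at this
  · rintro m x ⟨a, rfl⟩
    simp only
    rw [smul_smul, hφ, hφ]
    rfl

theorem fs_smul (H : Subgroup M) (m : M) (x : X) :
    m • x ∈ fs (MulAut.conj m • H) X ↔ x ∈ fs H X := by
  rw [mem_fs, mem_fs, stabilizer_smul', Subgroup.pointwise_smul_le_pointwise_smul_iff]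

theorem ncard_fs_smul (H : Subgroup M) (m : M) (S : Set X) (hS : ∀ m : M, ∀ x ∈ S, m • x ∈ S) :
    (fs (MulAut.conj m • H) X ∩ S).ncard = (fs H X ∩ S).ncard := by
  have : fs (MulAut.conj m • H) X ∩ S = (fun x => m • x) '' (fs H X ∩ S) := by
    ext x
    simp only [Set.mem_image, Set.mem_inter_iff]
    constructor
    · rintro ⟨h1, h2⟩
      refine ⟨m⁻¹ • x, ⟨?_, hS _ _ h2⟩, smul_inv_smul _ _⟩
      rw [← fs_smul H m, smul_inv_smul]
      exact h1
    · rintro ⟨y, ⟨h1, h2⟩, rfl⟩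
      exact ⟨(fs_smul H m y).2 h1, hS _ _ h2⟩
  rw [this, Set.ncard_image_of_injective _ (MulAction.injective m)]

theorem ncard_fs_smul' (H : Subgroup M) (m : M) :
    (fs (MulAut.conj m • H) X).ncard = (fs H X).ncard := by
  have := ncard_fs_smul (X := X) H m Set.univ (fun _ _ _ => trivial)
  simpa using this

end Fiber

section Mod

variable {M X Z : Type*} [Group M] [MulAction M X] [MulAction M Z]

/-- For a `P`-invariant set the number of points is congruent to the number of fixed points. -/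
theorem ncard_modEq {p : ℕ} [Fact p.Prime] [Finite X] {P : Subgroup M} (hP : IsPGroup p P)
    (S : Set X) (hS : ∀ m ∈ P, ∀ x ∈ S, m • x ∈ S) :
    S.ncard ≡ (fs P X ∩ S).ncard [MOD p] := by
  let A : SubMulAction P X :=
    { carrier := S
      smul_mem' := fun g x hx => hS g g.2 x hx }
  have h := hP.card_modEq_card_fixedPoints A
  have e : (fs P X ∩ S).ncard = Nat.card (fixedPoints P A) := by
    rw [← Nat.card_coe_set_eq]
    refine Nat.card_congr ⟨fun x => ⟨⟨x.1, x.2.2⟩, fun g => ?_⟩, fun x => ⟨x.1.1, ?_, x.1.2⟩, ?_, ?_⟩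
    · exact Subtype.ext (x.2.1 g.2)
    · intro g hg
      exact congrArg Subtype.val (x.2 ⟨g, hg⟩)
    · intro x; rfl
    · intro x; rfl
  rw [e, ← Nat.card_coe_set_eq]
  exact h

theorem exists_lc {p : ℕ} [Fact p.Prime] [Finite X] {P : Subgroup M} (hP : IsPGroup p P)
    (S : Set X) (hS : ∀ m ∈ P, ∀ x ∈ S, m • x ∈ S) :
    ∃ l, S.ncard = (fs P X ∩ S).ncard + p * l := by
  have h := ncard_modEq hP S hS
  have hle : (fs P X ∩ S).ncard ≤ S.ncard := Set.ncard_le_ncard Set.inter_subset_right S.toFinite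
  obtain ⟨l, hl⟩ := (Nat.modEq_iff_dvd' hle).1 h.symm
  exact ⟨l, by omega⟩

theorem exists_lc' {p : ℕ} [Fact p.Prime] [Finite X] {P : Subgroup M} (hP : IsPGroup p P) :
    ∃ l, Nat.card X = (fs P X).ncard + p * l := by
  have := exists_lc (X := X) hP Set.univ (fun _ _ _ _ => trivial)
  simpa using this

theorem mem_orbit_smul {δ x : X} (m : M) (hx : x ∈ orbit M δ) : m • x ∈ orbit M δ := by
  obtain ⟨a, rfl⟩ := hx
  exact ⟨m * a, by simp [mul_smul]⟩

/-- The comparison of an orbit with a quotient of it. -/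
theorem orbit_count {p : ℕ} [Fact p.Prime] [Finite M] [Finite X] (P : Sylow p M) {δ : X}
    {U : Subgroup M} (h : stabilizer M δ ≤ U) :
    ∃ b s, 0 < b ∧ (orbit M δ).ncard = b * Nat.card (M ⧸ U) ∧
      b * (fs (P : Subgroup M) (M ⧸ U)).ncard =
        (fs (P : Subgroup M) X ∩ orbit M δ).ncard + p * s ∧
      (b = 1 → U = stabilizer M δ) ∧
      (s = 0 → ∀ Q : Sylow p M, (Q : Subgroup M) ≤ U → (Q : Subgroup M) ≤ stabilizer M δ) := by
  obtain ⟨φ, hφ1, hφ⟩ := exists_equi h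
  have hS : ∀ m : M, ∀ x ∈ orbit M δ, m • x ∈ orbit M δ := fun m x hx => mem_orbit_smul m hx
  set b := {x | x ∈ orbit M δ ∧ φ x = ((1 : M) : M ⧸ U)}.ncard with hb
  have hcount := ncard_preimage (orbit M δ) hS φ hφ ((1 : M) : M ⧸ U)
  have h1 := hcount Set.univ
  have h2 := hcount (fs (P : Subgroup M) (M ⧸ U))
  simp only [Set.mem_univ, and_true, Set.ofPred_mem_eq, Set.ncard_univ] at h1
  -- the preimage of the fixed set
  set T : Set X := {x | x ∈ orbit M δ ∧ φ x ∈ fs (P : Subgroup M) (M ⧸ U)} with hT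
  have hTinv : ∀ m ∈ (P : Subgroup M), ∀ x ∈ T, m • x ∈ T := by
    rintro m hm x ⟨hx1, hx2⟩
    refine ⟨hS m x hx1, ?_⟩
    rw [hφ m x hx1]
    have : m • φ x = φ x := hx2 hm
    rw [this]
    exact hx2
  have hfT : fs (P : Subgroup M) X ∩ T = fs (P : Subgroup M) X ∩ orbit M δ := by
    ext x
    constructor
    · rintro ⟨h1, h2, h3⟩
      exact ⟨h1, h2⟩
    · rintro ⟨h1, h2⟩
      refine ⟨h1, h2, ?_⟩
      intro m hm
      have h3 : m • x = x := h1 hm
      rw [mem_stabilizer_iff, ← hφ m x h2, h3]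
  obtain ⟨s, hs⟩ := exists_lc P.isPGroup' T hTinv
  rw [hfT] at hs
  refine ⟨b, s, ?_, h1, ?_, ?_, ?_⟩
  · rw [hb, Set.ncard_pos]
    exact ⟨δ, mem_orbit_self δ, hφ1⟩
  · rw [← h2, hs]
  · intro hb1
    apply le_antisymm _ h
    intro u hu
    rw [hb, Set.ncard_eq_one] at hb1
    obtain ⟨a, ha⟩ := hb1
    have e1 : δ ∈ ({a} : Set X) := by
      rw [← ha]
      exact ⟨mem_orbit_self δ, hφ1⟩
    have e2 : u • δ ∈ ({a} : Set X) := by
      rw [← ha]
      refine ⟨mem_orbit _ _, ?_⟩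
      rw [hφ u δ (mem_orbit_self δ), hφ1]
      change ((u * 1 : M) : M ⧸ U) = _
      rw [mul_one, eq_comm, QuotientGroup.eq]
      simpa using hu
    rw [Set.mem_singleton_iff] at e1 e2
    rw [mem_stabilizer_iff, e2, ← e1]
  · intro hs0 Q hQ
    rw [hs0, mul_zero, add_zero] at hs
    have hTeq : fs (P : Subgroup M) X ∩ orbit M δ = T := by
      apply Set.eq_of_subset_of_ncard_le _ (le_of_eq hs) T.toFinite
      rw [← hfT]
      exact Set.inter_subset_right
    obtain ⟨m, hm⟩ := MulAction.exists_smul_eq M Q P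
    have hPm : (P : Subgroup M) = MulAut.conj m • (Q : Subgroup M) := by
      rw [← hm, Sylow.coe_subgroup_smul]
    have hmT : m • δ ∈ T := by
      refine ⟨mem_orbit _ _, ?_⟩
      rw [hφ m δ (mem_orbit_self δ), hφ1, hPm, fs_smul, mem_fs]
      intro q hq
      rw [mem_stabilizer_iff]
      change ((q * 1 : M) : M ⧸ U) = _
      rw [mul_one, eq_comm, QuotientGroup.eq]
      simpa using hQ hq
    rw [← hTeq] at hmT
    have := hmT.1
    rw [hPm, fs_smul] at this
    exact this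

end Mod

end Cfsg.Agent.H401
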