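import Cfsg.Agent.H401.ThmF

/-!
# Consequences: numbers of Sylow subgroups and of orbits of Sylow subgroups
-/

set_option autoImplicit false
open Subgroup MulAction
open scoped Pointwise

namespace Cfsg.Agent.H401

universe u

variable {p : ℕ} [Fact p.Prime]

theorem pGen_of_closure {G : Type*} [Group G] [Finite G]
    (hgen : Subgroup.closure {g : G | ∃ k : ℕ, orderOf g = p ^ k} = ⊤) : PGen p G := by
  have h : Subgroup.closure {g : G | ∃ k : ℕ, orderOf g = p ^ k} ≤ plus p (⊤ : Subgroup G) := by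
    rw [closure_le]
    rintro g ⟨k, hk⟩
    obtain ⟨Q, hQ⟩ := (isPGroup_zpowers hk).exists_le_sylow
    exact le_plus (Q := Q) le_top (hQ (mem_zpowers g))
  rw [hgen] at h
  exact eq_top_iff.2 h

omit [Fact p.Prime] in
theorem card_sylow_le {G : Type*} [Group G] [Finite G] [Fact p.Prime] {H : Subgroup G}
    {P : Sylow p G} (hP : (P : Subgroup G) ≤ H) :
    {Q : Sylow p G | (Q : Subgroup G) ≤ H}.ncard = Nat.card (Sylow p H) := by
  rw [← Nat.card_coe_set_eq]
  refine Nat.card_congr (Equiv.ofBijective (fun Q => Q.1.subtype Q.2) ⟨?_, ?_⟩)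
  · rintro ⟨Q, hQ⟩ ⟨Q', hQ'⟩ h
    have h1 : (Q : Subgroup G).subgroupOf H = (Q' : Subgroup G).subgroupOf H := by
      have := congrArg (fun R : Sylow p H => (R : Subgroup H)) h
      simpa [Sylow.coe_subtype] using this
    have h2 : (Q : Subgroup G) = Q' := by
      have h3 := congrArg (fun R : Subgroup H => R.map H.subtype) h1
      simp only [subgroupOf_map_subtype] at h3
      rwa [inf_eq_left.2 hQ, inf_eq_left.2 hQ'] at h3
    exact Subtype.ext (Sylow.ext h2)
  · intro R
    obtain ⟨Q, hQ⟩ := exists_sylow_map hP R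
    have hQH : (Q : Subgroup G) ≤ H := by
      rw [hQ]
      exact map_subtype_le _
    refine ⟨⟨Q, hQH⟩, ?_⟩
    apply Sylow.ext
    rw [Sylow.coe_subtype, hQ]
    exact comap_map_eq_self_of_injective (subtype_injective H) _

theorem sylow_number {G : Type u} [Group G] [Finite G] (hG : PGen p G) {H : Subgroup G}
    (hH : H ≠ ⊤) {P : Sylow p G} (hP : (P : Subgroup G) ≤ H) :
    (2 * p - 1) * Nat.card (Sylow p ↥H) ≤ (p - 1) * Nat.card (Sylow p G) := by
  classical
  have hF := thmF _ G rfl hG H hH P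
  have hcount := double_count (Set.univ : Set (Sylow p G)) (Set.univ : Set (G ⧸ H))
    (fun Q x => (Q : Subgroup G) ≤ stabilizer G x)
    (m := (fs (P : Subgroup G) (G ⧸ H)).ncard) (n := Nat.card (Sylow p ↥H))
    (by
      intro Q _
      obtain ⟨g, rfl⟩ := MulAction.exists_smul_eq G P Q
      rw [Sylow.coe_subgroup_smul]
      simp only [Set.mem_univ, true_and]
      exact ncard_fs_smul' (X := G ⧸ H) (P : Subgroup G) g)
    (by
      intro x _
      obtain ⟨g, rfl⟩ := QuotientGroup.mk_surjective x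
      simp only [Set.mem_univ, true_and]
      rw [← card_sylow_le hP]
      have hst : stabilizer G (g : G ⧸ H) = MulAut.conj g • H := coe_stabilizer H g
      have : {Q : Sylow p G | (Q : Subgroup G) ≤ stabilizer G (g : G ⧸ H)} =
          (fun Q : Sylow p G => g • Q) '' {Q : Sylow p G | (Q : Subgroup G) ≤ H} := by
        ext Q
        simp only [Set.mem_ofPred_eq, Set.mem_image]
        constructor
        · intro hQ
          refine ⟨g⁻¹ • Q, ?_, smul_inv_smul _ _⟩
          rw [Sylow.coe_subgroup_smul, map_inv, ← Subgroup.subset_pointwise_smul_iff, ← hst]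
          exact hQ
        · rintro ⟨R, hR, rfl⟩
          rw [hst, Sylow.coe_subgroup_smul, Subgroup.pointwise_smul_le_pointwise_smul_iff]
          exact hR
      rw [this, Set.ncard_image_of_injective _ (MulAction.injective g)])
  rw [Set.ncard_univ, Set.ncard_univ] at hcount
  have hn : 0 < Nat.card (G ⧸ H) := Nat.card_pos
  apply Nat.le_of_mul_le_mul_left _ hn
  calc Nat.card (G ⧸ H) * ((2 * p - 1) * Nat.card (Sylow p ↥H))
      = (2 * p - 1) * (Nat.card (G ⧸ H) * Nat.card (Sylow p ↥H)) := by ring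
    _ = (2 * p - 1) * (Nat.card (Sylow p G) * (fs (P : Subgroup G) (G ⧸ H)).ncard) := by
      rw [hcount]
    _ = Nat.card (Sylow p G) * ((2 * p - 1) * (fs (P : Subgroup G) (G ⧸ H)).ncard) := by ring
    _ ≤ Nat.card (Sylow p G) * ((p - 1) * Nat.card (G ⧸ H)) := Nat.mul_le_mul_left _ hF
    _ = Nat.card (G ⧸ H) * ((p - 1) * Nat.card (Sylow p G)) := by ring

/-- The fixed points of a Sylow subgroup of a faithful transitive group. -/
theorem fixed_points {G : Type u} {Ω : Type*} [Group G] [Finite G] [MulAction G Ω]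
    [FaithfulSMul G Ω] [Finite Ω] [IsPretransitive G Ω] (hpG : p ∣ Nat.card G) (P : Sylow p G) :
    (2 * p - 1) * (fs (P : Subgroup G) Ω).ncard ≤ (p - 1) * Nat.card Ω := by
  classical
  have hp : p.Prime := Fact.out
  obtain ⟨K, hK⟩ : ∃ K : Subgroup G, K = plus p (⊤ : Subgroup G) := ⟨_, rfl⟩
  have hPK : (P : Subgroup G) ≤ K := by
    rw [hK]
    exact le_plus le_top
  have hKgen : PGen p K := by
    rw [hK]
    exact pGen_plus (P := P) le_top
  have hst : ∀ ω : Ω, stabilizer K ω ≠ ⊤ := by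
    intro ω h
    have hKn : K.Normal := by
      rw [← normalizer_eq_top_iff, eq_top_iff, hK]
      exact le_normalizer_plus ⊤
    have hPbot : (P : Subgroup G) ≤ ⊥ := by
      intro g hg
      rw [mem_bot]
      apply FaithfulSMul.eq_of_smul_eq_smul (α := Ω)
      intro x
      obtain ⟨k, rfl⟩ := MulAction.exists_smul_eq G ω x
      rw [one_smul]
      have h2 : k⁻¹ * g * k ∈ K := by
        have := hKn.conj_mem g (hPK hg) k⁻¹
        rwa [inv_inv] at this
      have h3 : (⟨k⁻¹ * g * k, h2⟩ : K) ∈ stabilizer K ω := by rw [h]; trivial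
      have h4 : (k⁻¹ * g * k) • ω = ω := h3
      rw [mul_smul, mul_smul, inv_smul_eq_iff] at h4
      exact h4
    have h5 := P.card_eq_multiplicity
    have h6 : Nat.card (P : Subgroup G) = 1 := by
      rw [le_bot_iff.1 hPbot, Subgroup.card_bot]
    have h7 : 1 ≤ (Nat.card G).factorization p :=
      (hp.dvd_iff_one_le_factorization Nat.card_pos.ne').1 hpG
    have h8 : Nat.card P = 1 := h6
    rw [h8] at h5
    have h9 : p ^ 1 ≤ p ^ (Nat.card G).factorization p := Nat.pow_le_pow_right hp.pos h7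
    rw [← h5, pow_one] at h9
    have := hp.one_lt
    omega
  have hsum := sum_orbits (M := K) (X := Ω)
    (A := fs ((P.subtype hPK : Sylow p K) : Subgroup K) Ω) (Y := Set.univ)
    (fun _ _ _ => trivial) (c1 := 2 * p - 1) (c2 := p - 1) (by
      intro y _
      exact (thmF _ K rfl hKgen _ (hst y)).orbit _)
  rw [Set.inter_univ, Set.ncard_univ, fs_subtype hPK] at hsum
  exact hsum

omit [Fact p.Prime] in
/-- The number of orbits of a `p`-group. -/
theorem card_orbits_le [Fact p.Prime] {G Ω : Type*} [Group G] [Finite G] [MulAction G Ω]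
    [Finite Ω] {P : Subgroup G} (hP : IsPGroup p P) :
    p * Nat.card (orbitRel.Quotient P Ω) ≤ (p - 1) * (fs P Ω).ncard + Nat.card Ω := by
  classical
  have hp : p.Prime := Fact.out
  have : Fintype (orbitRel.Quotient P Ω) := Fintype.ofFinite _
  have h1 := ncard_eq_sum (fun x => (Quotient.mk _ x : orbitRel.Quotient P Ω)) (fs P Ω)
  have h2 := ncard_eq_sum (fun x => (Quotient.mk _ x : orbitRel.Quotient P Ω)) (Set.univ : Set Ω)
  rw [Set.ncard_univ] at h2
  rw [h1, h2, Finset.mul_sum, ← Finset.sum_add_distrib, Nat.card_eq_fintype_card,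
    ← Finset.card_univ, mul_comm, Finset.card_eq_sum_ones, Finset.sum_mul]
  apply Finset.sum_le_sum
  intro ω _
  rw [one_mul, Set.univ_inter]
  induction ω using Quotient.inductionOn with
  | h y =>
    have hfib : {x : Ω | (Quotient.mk _ x : orbitRel.Quotient P Ω) = Quotient.mk _ y} =
        orbit P y := by
      ext x
      simp only [Set.mem_ofPred_eq]
      rw [Quotient.eq]
      exact orbitRel_apply
    rw [hfib]
    have hinv : ∀ m ∈ P, ∀ x ∈ (orbit P y : Set Ω), m • x ∈ orbit P y := by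
      rintro m hm _ ⟨g, rfl⟩
      exact ⟨⟨m, hm⟩ * g, by simp [mul_smul]⟩
    obtain ⟨l, hl⟩ := exists_lc hP (orbit P y : Set Ω) hinv
    have hpos : 0 < (orbit P y : Set Ω).ncard := by
      rw [Set.ncard_pos]
      exact ⟨y, mem_orbit_self y⟩
    rcases Nat.eq_zero_or_pos l with h0 | h0
    · rw [h0, mul_zero, add_zero] at hl
      rw [← hl]
      have h3 : (p - 1) * 1 ≤ (p - 1) * (orbit P y : Set Ω).ncard := Nat.mul_le_mul_left _ hpos
      omega
    · have h3 : p * 1 ≤ p * l := Nat.mul_le_mul_left _ h0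
      omega

theorem orbit_bound {G : Type u} {Ω : Type*} [Group G] [Finite G] [MulAction G Ω]
    [FaithfulSMul G Ω] [Finite Ω] [IsPretransitive G Ω] (hpG : p ∣ Nat.card G) (P : Sylow p G) :
    (2 * p - 1) * Nat.card (orbitRel.Quotient ↥(P : Subgroup G) Ω) ≤ p * Nat.card Ω := by
  have hp : p.Prime := Fact.out
  have h1 := fixed_points (Ω := Ω) hpG P
  have h2 := card_orbits_le (Ω := Ω) P.isPGroup'
  set f := (fs (P : Subgroup G) Ω).ncard
  set n := Nat.card Ω
  set o := Nat.card (orbitRel.Quotient ↥(P : Subgroup G) Ω)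
  obtain ⟨q, rfl⟩ : ∃ q, p = q + 1 := ⟨p - 1, by have := hp.pos; omega⟩
  have e1 : 2 * (q + 1) - 1 = 2 * q + 1 := by omega
  rw [e1, Nat.add_sub_cancel] at h1
  rw [Nat.add_sub_cancel] at h2
  rw [e1]
  apply Nat.le_of_mul_le_mul_left _ (Nat.succ_pos q)
  calc (q + 1) * ((2 * q + 1) * o) = (2 * q + 1) * ((q + 1) * o) := by ring
    _ ≤ (2 * q + 1) * (q * f + n) := Nat.mul_le_mul_left _ h2
    _ = q * ((2 * q + 1) * f) + (2 * q + 1) * n := by ring
    _ ≤ q * (q * n) + (2 * q + 1) * n := Nat.add_le_add_right (Nat.mul_le_mul_left _ h1) _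
    _ = (q + 1) * ((q + 1) * n) := by ring

end Cfsg.Agent.H401
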