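import Cfsg.Agent.H401.Orb
import Cfsg.Agent.H401.CaseB

/-!
# The bound in the semiregular case
-/

set_option autoImplicit false
open Subgroup MulAction
open scoped Pointwise

namespace Cfsg.Agent.H401

universe u

/-- The bound `f < p t` for coset actions which are semiregular outside the fixed points. -/
def HPs (p : ℕ) {G : Type*} [Group G] (K : Subgroup G) : Prop :=
  ∀ P : Sylow p G, (∀ x : G ⧸ K, x ∉ fs (P : Subgroup G) (G ⧸ K) →
    (P : Subgroup G) ⊓ stabilizer G x = ⊥) →
    ∀ t, Nat.card (G ⧸ K) = (fs (P : Subgroup G) (G ⧸ K)).ncard + Nat.card P * t →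
      (fs (P : Subgroup G) (G ⧸ K)).ncard < p * t

section

variable {M X : Type*} [Group M] [Finite M] [MulAction M X] {p : ℕ}

theorem hp_orbit (y : X) (h : HPs p (stabilizer M y)) (P : Sylow p M)
    (hsr : ∀ x ∈ orbit M y, x ∉ fs (P : Subgroup M) X → (P : Subgroup M) ⊓ stabilizer M x = ⊥)
    {t : ℕ} (ht : (orbit M y).ncard = (fs (P : Subgroup M) X ∩ orbit M y).ncard +
      Nat.card P * t) : (fs (P : Subgroup M) X ∩ orbit M y).ncard < p * t := by
  rw [← ncard_fs_orbit]
  apply h P
  · intro q hq
    obtain ⟨m, rfl⟩ := QuotientGroup.mk_surjective q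
    have hst : stabilizer M (m : M ⧸ stabilizer M y) = stabilizer M (m • y) := by
      rw [stabilizer_smul']
      have : ((m : M) : M ⧸ stabilizer M y) = m • (((1 : M) : M ⧸ stabilizer M y)) := by
        change _ = ((m * 1 : M) : M ⧸ stabilizer M y)
        rw [mul_one]
      rw [this, stabilizer_smul', stabilizer_mk_one]
    rw [hst]
    apply hsr _ (mem_orbit _ _)
    intro hx
    apply hq
    rw [mem_fs, hst]
    exact hx
  · rw [card_quot_orbit, ncard_fs_orbit, ht]

end

theorem exists_t {G X : Type*} [Group G] [Finite G] [MulAction G X] [Finite X] {p : ℕ}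
    (P : Sylow p G) (S : Set X)
    (hS : ∀ m ∈ (P : Subgroup G), ∀ x ∈ S, m • x ∈ S)
    (hsr : ∀ x ∈ S, x ∉ fs (P : Subgroup G) X → (P : Subgroup G) ⊓ stabilizer G x = ⊥) :
    ∃ t, S.ncard = (fs (P : Subgroup G) X ∩ S).ncard + Nat.card P * t := by
  have h1 : Nat.card (P : Subgroup G) ∣ (S \ fs (P : Subgroup G) X).ncard := by
    apply card_dvd_ncard
    · rintro m hm x ⟨hx1, hx2⟩
      refine ⟨hS m hm x hx1, ?_⟩
      intro h
      apply hx2
      have h2 : m⁻¹ • (m • x) = m • x := h (inv_mem hm)
      rw [inv_smul_smul] at h2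
      rw [h2]
      exact h
    · rintro x ⟨hx1, hx2⟩
      exact hsr x hx1 hx2
  obtain ⟨t, ht⟩ := h1
  refine ⟨t, ?_⟩
  rw [Set.inter_comm, ← Set.ncard_inter_add_ncard_sdiff_eq_ncard S (fs (P : Subgroup G) X)
    (Set.toFinite _), ht]

theorem hp_prim {p : ℕ} [Fact p.Prime] {G X : Type u} [Group G] [Finite G]
    [MulAction G X] [Finite X] [IsPreprimitive G X] [Nontrivial X] (hG : PGen p G)
    {P : Sylow p G}
    (hsr : ∀ x : X, x ∉ fs (P : Subgroup G) X → (P : Subgroup G) ⊓ stabilizer G x = ⊥)
    (IH : ∀ M : Subgroup G, PGen p M → ∀ U : Subgroup M, U ≠ ⊤ →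
      Nat.card (M ⧸ U) < Nat.card X → HPs p U)
    {f t : ℕ} (hf : (fs (P : Subgroup G) X).ncard = f) (hX : Nat.card X = f + Nat.card P * t) :
    f < p * t := by
  classical
  have hp : p.Prime := Fact.out
  have hX2 : 1 < Nat.card X := Finite.one_lt_card
  rcases Nat.eq_zero_or_pos f with hf0 | hf0
  · have : t ≠ 0 := by
      rintro rfl
      rw [mul_zero] at hX
      omega
    rw [hf0]
    exact Nat.mul_pos hp.pos (by omega)
  have hne : (fs (P : Subgroup G) X).Nonempty := by
    apply Set.nonempty_of_ncard_ne_zero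
    omega
  obtain ⟨β, hβ⟩ := hne
  have hβ' : (P : Subgroup G) ≤ stabilizer G β := hβ
  have hPpos : 0 < Nat.card P := Nat.card_pos
  -- `p` does not divide `f`
  have hPne : t ≠ 0 → ¬ p ∣ f ∨ Nat.card P = 1 := by
    intro _
    by_cases hP1 : Nat.card P = 1
    · right; exact hP1
    · left
      have h1 := not_dvd_card_of_fixed P hβ
      intro h2
      apply h1
      rw [hX]
      refine dvd_add h2 (Dvd.dvd.mul_right ?_ _)
      obtain ⟨k, hk⟩ := (IsPGroup.iff_card).1 P.isPGroup'
      rcases k with _ | k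
      · exact absurd (by simpa using hk) hP1
      · rw [hk]
        exact dvd_pow_self p (by omega)
  set M := plus p (stabilizer G β) with hM
  obtain ⟨P', hP'⟩ : ∃ P' : Sylow p M, P' = P.subtype (le_plus hβ') := ⟨_, rfl⟩
  have hfs : fs (P' : Subgroup M) X = fs (P : Subgroup G) X := by
    rw [hP']
    exact fs_subtype (le_plus hβ')
  have hcardP' : Nat.card P' = Nat.card P := by
    rw [hP']
    exact Nat.card_congr (subgroupOfEquivOfLe (le_plus hβ')).toEquiv
  have hMβ : ∀ m : M, m • β = β := fun m => plus_le _ m.2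
  obtain ⟨ι, hι, δ, hδ, hcov, hsum⟩ := exists_reps (M := M) β hMβ
  have hsr' : ∀ x : X, x ∉ fs (P' : Subgroup M) X → (P' : Subgroup M) ⊓ stabilizer M x = ⊥ := by
    intro x hx
    rw [hfs] at hx
    have h1 := hsr x hx
    rw [eq_bot_iff]
    intro m hm
    have h2 : (m : G) ∈ (P : Subgroup G) ⊓ stabilizer G x := by
      refine ⟨?_, hm.2⟩
      have h3 : m ∈ (P' : Subgroup M) := hm.1
      rw [hP', Sylow.coe_subtype, mem_subgroupOf] at h3
      exact h3
    rw [h1, mem_bot] at h2
    rw [mem_bot]
    exact Subtype.ext h2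
  have hstab : ∀ x : X, x ≠ β → stabilizer M x ≠ ⊤ := by
    intro x hx hst
    apply hx
    apply eq_of_plus_le hG hβ'
    intro m hm
    have : (⟨m, hm⟩ : M) ∈ stabilizer M x := by
      rw [hst]; trivial
    exact this
  have ht' : ∀ i, ∃ t, (orbit M (δ i)).ncard =
      (fs (P' : Subgroup M) X ∩ orbit M (δ i)).ncard + Nat.card P * t := by
    intro i
    obtain ⟨t, ht⟩ := exists_t P' (orbit M (δ i)) (fun m _ x hx => mem_orbit_smul m hx)
      (fun x _ hx => hsr' x hx)
    rw [hcardP'] at ht
    exact ⟨t, ht⟩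
  choose s hs using ht'
  have hcardsum : Nat.card X = 1 + ∑ i, (orbit M (δ i)).ncard := by
    have := hsum Set.univ trivial
    simpa using this
  have hfsum : f = 1 + ∑ i, (fs (P' : Subgroup M) X ∩ orbit M (δ i)).ncard := by
    rw [← hf, ← hfs]
    apply hsum
    rw [hfs]
    exact hβ
  have hlt : ∀ i, (orbit M (δ i)).ncard < Nat.card X := by
    intro i
    have h2 : (orbit M (δ i)).ncard ≤ ∑ i, (orbit M (δ i)).ncard :=
      Finset.single_le_sum (f := fun i => (orbit M (δ i)).ncard) (fun _ _ => Nat.zero_le _)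
        (Finset.mem_univ i)
    omega
  have hbound : ∀ i, (fs (P' : Subgroup M) X ∩ orbit M (δ i)).ncard + 1 ≤ p * s i := by
    intro i
    have h1 := IH M (pGen_plus hβ') (stabilizer M (δ i)) (hstab _ (hδ i))
      (by rw [card_quot_orbit]; exact hlt i)
    exact hp_orbit (δ i) h1 P' (fun x _ hx => hsr' x hx) (by rw [hcardP']; exact hs i)
  have hts : t = ∑ i, s i := by
    have h1 : Nat.card P * t = Nat.card P * ∑ i, s i := by
      have h2 : ∑ i, (orbit M (δ i)).ncard =
          ∑ i, (fs (P' : Subgroup M) X ∩ orbit M (δ i)).ncard + Nat.card P * ∑ i, s i := by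
        rw [Finset.mul_sum, ← Finset.sum_add_distrib]
        exact Finset.sum_congr rfl fun i _ => hs i
      omega
    exact Nat.eq_of_mul_eq_mul_left hPpos h1
  have hsum2 : ∑ i, (fs (P' : Subgroup M) X ∩ orbit M (δ i)).ncard + Fintype.card ι ≤ p * t := by
    rw [hts, Finset.mul_sum, ← Finset.card_univ, Finset.card_eq_sum_ones,
      ← Finset.sum_add_distrib]
    exact Finset.sum_le_sum fun i _ => hbound i
  have hιpos : 0 < Fintype.card ι := by
    rw [Fintype.card_pos_iff]
    by_contra hemp
    rw [not_nonempty_iff] at hemp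
    rw [Finset.univ_eq_empty, Finset.sum_empty] at hcardsum
    omega
  have hle : f ≤ p * t := by omega
  rcases hle.eq_or_lt with h1 | h1
  · exfalso
    have ht0 : t ≠ 0 := by
      rintro rfl
      omega
    rcases hPne ht0 with h2 | h2
    · exact h2 ⟨t, h1⟩
    · -- `P` is trivial
      have hbot : (P : Subgroup G) = ⊥ := Subgroup.card_eq_one.1 h2
      have h3 : fs (P : Subgroup G) X = Set.univ := by
        rw [Set.eq_univ_iff_forall]
        intro x
        rw [mem_fs, hbot]
        exact bot_le
      rw [h3, Set.ncard_univ] at hf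
      rw [hf, h2, one_mul] at hX
      omega
  · exact h1

theorem hp_main {p : ℕ} [Fact p.Prime] (n : ℕ) :
    ∀ (G : Type u) [Group G] [Finite G] (K : Subgroup G), K ≠ ⊤ → Nat.card (G ⧸ K) = n →
      PGen p G → HPs p K := by
  have hp : p.Prime := Fact.out
  induction n using Nat.strong_induction_on with
  | _ n IH =>
    intro G _ _ K hK hn hG P hsr t ht
    have hntK : Nontrivial (G ⧸ K) := by
      rw [QuotientGroup.nontrivial_iff]
      exact hK
    obtain ⟨U, hU, hKU⟩ := (eq_top_or_exists_le_coatom K).resolve_left hK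
    rcases hKU.eq_or_lt with hEq | hLt
    · subst hEq
      have hprim : IsPreprimitive G (G ⧸ K) := by
        rw [← isCoatom_stabilizer_iff_preprimitive G ((1 : G) : G ⧸ K), stabilizer_mk_one]
        exact hU
      exact hp_prim hG hsr
        (fun M hM V hV hlt => IH _ (by rw [← hn]; exact hlt) M V hV rfl hM) rfl ht
    · -- imprimitive case
      rcases Nat.eq_zero_or_pos (fs (P : Subgroup G) (G ⧸ K)).ncard with hf0 | hf0
      · have hX2 : 1 < Nat.card (G ⧸ K) := Finite.one_lt_card
        have : t ≠ 0 := by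
          rintro rfl
          rw [mul_zero, hf0] at ht
          omega
        rw [hf0]
        exact Nat.mul_pos hp.pos (by omega)
      obtain ⟨β, hβ⟩ := Set.nonempty_of_ncard_ne_zero (by omega : (fs (P : Subgroup G) (G ⧸ K)).ncard ≠ 0)
      have hpn := not_dvd_card_of_fixed P hβ
      let φ : G ⧸ K → G ⧸ U := Subgroup.quotientMapOfLE hKU
      have hφ : ∀ (g : G) (x : G ⧸ K), φ (g • x) = g • φ x := by
        intro g x
        obtain ⟨y, rfl⟩ := QuotientGroup.mk_surjective x
        rfl
      have hcnt := fun z T => ncard_preimage (Set.univ : Set (G ⧸ K)) (fun _ _ _ => trivial) φ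
        (fun m x _ => hφ m x) z T
      simp only [Set.mem_univ, true_and] at hcnt
      have hfibcard : ∀ z, Nat.card (G ⧸ K) = {x | φ x = z}.ncard * Nat.card (G ⧸ U) := by
        intro z
        have := hcnt z Set.univ
        simpa using this
      have hfixφ : ∀ x, x ∈ fs (P : Subgroup G) (G ⧸ K) → φ x ∈ fs (P : Subgroup G) (G ⧸ U) := by
        intro x hx g hg
        rw [mem_stabilizer_iff, ← hφ]
        congr 1
        exact hx hg
      have hsrU : ∀ z : G ⧸ U, z ∉ fs (P : Subgroup G) (G ⧸ U) →
          (P : Subgroup G) ⊓ stabilizer G z = ⊥ := by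
        intro z hz
        by_contra hD
        have hDp : IsPGroup p ((P : Subgroup G) ⊓ stabilizer G z : Subgroup G) :=
          P.isPGroup'.to_le inf_le_left
        have hmod := ncard_modEq (X := G ⧸ K) hDp {x | φ x = z} (by
          rintro m hm x hx
          have h1 : φ x = z := hx
          change φ (m • x) = z
          rw [hφ, h1]
          exact hm.2)
        have hnz : ¬ p ∣ {x | φ x = z}.ncard := by
          intro h
          apply hpn
          rw [hfibcard z]
          exact Dvd.dvd.mul_right h _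
        have hne : (fs ((P : Subgroup G) ⊓ stabilizer G z) (G ⧸ K) ∩ {x | φ x = z}).Nonempty := by
          rw [Set.nonempty_iff_ne_empty]
          intro h
          rw [h, Set.ncard_empty] at hmod
          exact hnz ((Nat.modEq_zero_iff_dvd).1 hmod)
        obtain ⟨x, hx1, hx2⟩ := hne
        by_cases hxf : x ∈ fs (P : Subgroup G) (G ⧸ K)
        · apply hz
          have h1 : φ x = z := hx2
          rw [← h1]
          exact hfixφ x hxf
        · apply hD
          rw [eq_bot_iff, ← hsr x hxf]
          exact le_inf inf_le_left hx1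
      obtain ⟨t', ht'⟩ := exists_t P (Set.univ : Set (G ⧸ U)) (fun _ _ _ _ => trivial)
        (fun x _ hx => hsrU x hx)
      rw [Set.inter_univ, Set.ncard_univ] at ht'
      have hlt : Nat.card (G ⧸ U) < n := by
        rw [← hn]
        have h1 : K.index = K.relIndex U * U.index := (Subgroup.relIndex_mul_index hKU).symm
        have h2 : Nat.card (G ⧸ K) = K.index := rfl
        have h3 : Nat.card (G ⧸ U) = U.index := rfl
        rw [h2, h3, h1]
        have h4 : K.relIndex U ≠ 0 := relIndex_ne_zero' _ _
        have h5 : K.relIndex U ≠ 1 := by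
          intro h
          rw [Subgroup.relIndex_eq_one] at h
          exact absurd hLt (not_lt_of_ge h)
        have h6 : 0 < U.index := Nat.pos_of_ne_zero Subgroup.index_ne_zero_of_finite
        have h7 : 2 * U.index ≤ K.relIndex U * U.index := Nat.mul_le_mul_right _ (by omega)
        omega
      have hIH := IH _ hlt G U hU.1 rfl hG P hsrU t' ht'
      set b := {x | φ x = ((1 : G) : G ⧸ U)}.ncard with hb
      have hbX := hfibcard ((1 : G) : G ⧸ U)
      rw [← hb] at hbX
      have hbf := hcnt ((1 : G) : G ⧸ U) (fs (P : Subgroup G) (G ⧸ U))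
      rw [← hb] at hbf
      have hfle : (fs (P : Subgroup G) (G ⧸ K)).ncard ≤
          b * (fs (P : Subgroup G) (G ⧸ U)).ncard := by
        rw [← hbf]
        apply Set.ncard_le_ncard _ (Set.toFinite _)
        intro x hx
        exact hfixφ x hx
      have hbpos : 0 < b := by
        rcases Nat.eq_zero_or_pos b with h | h
        · rw [h, zero_mul] at hbX
          have : 0 < Nat.card (G ⧸ K) := Nat.card_pos
          omega
        · exact h
      have hqpos : 0 < Nat.card P := Nat.card_pos
      have htle : b * t' ≤ t := by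
        have h1 : Nat.card P * (b * t') ≤ Nat.card P * t := by
          have h2 : (fs (P : Subgroup G) (G ⧸ K)).ncard + Nat.card P * t =
              b * (fs (P : Subgroup G) (G ⧸ U)).ncard + Nat.card P * (b * t') := by
            rw [← ht, hbX, ht']
            ring
          omega
        exact Nat.le_of_mul_le_mul_left h1 hqpos
      calc (fs (P : Subgroup G) (G ⧸ K)).ncard ≤ b * (fs (P : Subgroup G) (G ⧸ U)).ncard := hfle
        _ < b * (p * t') := Nat.mul_lt_mul_of_pos_left hIH hbpos
        _ = p * (b * t') := by ring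
        _ ≤ p * t := Nat.mul_le_mul_left _ htle

end Cfsg.Agent.H401
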