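import Cfsg.Agent.H401.Alt
import Cfsg.Agent.H401.Dat

/-!
# Maximal subgroups with alternating coset action
-/

set_option autoImplicit false
open Subgroup MulAction
open scoped Pointwise

namespace Cfsg.Agent.H401

variable {M : Type*} [Group M] [Finite M] {p : ℕ} [Fact p.Prime]

omit [Finite M] in
theorem ncard_orbit_eq {Z : Type*} [MulAction M Z] {P : Subgroup M} (hP : Nat.card P = p)
    {z : Z} (hz : z ∉ fs P Z) : (orbit P z).ncard = p := by
  have hp : p.Prime := Fact.out
  have h1 : (orbit P z).ncard = (stabilizer P z).index := by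
    rw [← Nat.card_coe_set_eq, Nat.card_congr (orbitEquivQuotientStabilizer P z)]
    rfl
  have h2 : (stabilizer P z).index ∣ p := by
    rw [← hP]
    exact Subgroup.index_dvd_card _
  rcases (Nat.dvd_prime hp).1 h2 with h | h
  · exfalso
    rw [Subgroup.index_eq_one] at h
    apply hz
    intro g hg
    have : (⟨g, hg⟩ : P) ∈ stabilizer P z := by rw [h]; trivial
    exact this
  · rw [h1, h]

theorem not_dvd_card_of_normal (hM : PGen p M) {P : Sylow p M} (hP : Nat.card P = p)
    {K : Subgroup M} (hK : K.Normal) (hK' : K ≠ ⊤) : ¬ p ∣ Nat.card K := by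
  intro h
  obtain ⟨k, hk⟩ := exists_prime_orderOf_dvd_card' (G := K) p h
  have h1 : orderOf (k : M) = p := by rw [Subgroup.orderOf_coe, hk]
  have h2 : IsPGroup p (zpowers (k : M)) := by
    apply IsPGroup.of_card (n := 1)
    rw [Nat.card_zpowers, h1, pow_one]
  obtain ⟨Q, hQ⟩ := h2.exists_le_sylow
  have h3 : zpowers (k : M) = (Q : Subgroup M) := by
    apply Subgroup.eq_of_le_of_card_ge hQ
    rw [Nat.card_zpowers, h1]
    have : Nat.card Q = Nat.card P := Nat.card_congr (Sylow.equiv Q P).toEquiv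
    exact le_of_eq (this.trans hP)
  apply hK'
  apply hM.eq_top_of_normal hK (P := Q)
  rw [← h3, zpowers_le]
  exact k.2

/-- A maximal subgroup whose coset action is alternating of degree less than `2 p`. -/
structure IsAltCo (P : Sylow p M) (U : Subgroup M) (a : ℕ) : Prop where
  coatom : IsCoatom U
  fix : (fs (P : Subgroup M) (M ⧸ U)).ncard = a
  card : Nat.card (M ⧸ U) = a + p
  lt : a < p
  crit : AltCrit p a

theorem normalCore_ne_top {U : Subgroup M} (hU : U ≠ ⊤) : U.normalCore ≠ ⊤ := by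
  intro h
  apply hU
  rw [eq_top_iff, ← h]
  exact normalCore_le U

theorem IsAltCo.range [Fintype M] {P : Sylow p M} {U : Subgroup M} {a : ℕ}
    [Fintype (M ⧸ U)] [DecidableEq (M ⧸ U)] (h : IsAltCo P U a) (hp2 : p ≠ 2) (hM : PGen p M)
    (hP : Nat.card P = p) : (toPermHom M (M ⧸ U)).range = alternatingGroup (M ⧸ U) :=
  range_eq_alternating hp2 hM hP h.fix (by rw [← Nat.card_eq_fintype_card, h.card]) h.lt h.crit

/-- every proper normal subgroup lies in the core of a subgroup with alternating action -/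
theorem normal_le_of_range {P : Sylow p M} {U : Subgroup M} (hU : U ≠ ⊤)
    [Fintype (M ⧸ U)] [DecidableEq (M ⧸ U)] (h5 : 5 ≤ Nat.card (M ⧸ U))
    (hr : (toPermHom M (M ⧸ U)).range = alternatingGroup (M ⧸ U))
    (hM : PGen p M) (hP : Nat.card P = p) {N : Subgroup M} (hN : N.Normal)
    (hN' : N ≠ ⊤) : N ≤ U.normalCore := by
  have := alternatingGroup.isSimpleGroup (α := M ⧸ U) h5
  set hom := toPermHom M (M ⧸ U) with hhom
  have hNle : N.map hom ≤ alternatingGroup (M ⧸ U) := by
    rw [← hr]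
    exact Subgroup.map_le_range _ _
  have hnorm : ((N.map hom).subgroupOf (alternatingGroup (M ⧸ U))).Normal := by
    constructor
    rintro ⟨x, hx⟩ hx' ⟨y, hy⟩
    rw [mem_subgroupOf] at hx' ⊢
    obtain ⟨n, hn, hnx⟩ := hx'
    rw [← hr] at hy
    obtain ⟨m, rfl⟩ := hy
    refine ⟨m * n * m⁻¹, hN.conj_mem n hn m, ?_⟩
    rw [map_mul, map_mul, map_inv, hnx]
    rfl
  rcases hnorm.eq_bot_or_eq_top with h1 | h1
  · rw [normalCore_eq_ker, ← hhom, ← Subgroup.map_eq_bot_iff]
    rw [subgroupOf_eq_bot] at h1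
    rw [← inf_eq_left.2 hNle]
    exact h1.eq_bot
  · exfalso
    have h2 : (P : Subgroup M).map hom ≤ N.map hom := by
      rw [subgroupOf_eq_top] at h1
      refine le_trans ?_ h1
      rw [← hr]
      exact Subgroup.map_le_range _ _
    have h3 : Nat.card ((P : Subgroup M).map hom) ∣ Nat.card N :=
      (Subgroup.card_dvd_of_le h2).trans (Subgroup.card_map_dvd N hom)
    have h4 : Nat.card ((P : Subgroup M).map hom) ∣ p := by
      have := Subgroup.card_map_dvd (P : Subgroup M) hom
      rwa [show Nat.card (P : Subgroup M) = p from hP] at this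
    rcases (Nat.dvd_prime Fact.out).1 h4 with h5 | h5
    · rw [Subgroup.card_eq_one, Subgroup.map_eq_bot_iff, hhom, ← normalCore_eq_ker] at h5
      exact normalCore_ne_top hU (hM.eq_top_of_normal (normalCore_normal U) h5)
    · rw [h5] at h3
      exact not_dvd_card_of_normal hM hP hN hN' h3

/-- every proper normal subgroup lies in the core of an alternating maximal subgroup -/
theorem IsAltCo.normal_le {P : Sylow p M} {U : Subgroup M} {a : ℕ} (h : IsAltCo P U a)
    (hp2 : p ≠ 2) (hM : PGen p M) (hP : Nat.card P = p) {N : Subgroup M} (hN : N.Normal)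
    (hN' : N ≠ ⊤) : N ≤ U.normalCore := by
  classical
  have := Fintype.ofFinite M
  have := Fintype.ofFinite (M ⧸ U)
  have hp3 : 3 ≤ p := by
    have := (Fact.out : p.Prime).two_le
    omega
  refine normal_le_of_range h.coatom.1 ?_ (h.range hp2 hM hP) hM hP hN hN'
  rw [h.card]
  have := h.crit.two_le
  omega

/-- the degree of an alternating maximal subgroup is minimal -/
theorem IsAltCo.le {P : Sylow p M} {U : Subgroup M} {a : ℕ} (h : IsAltCo P U a)
    (hp2 : p ≠ 2) (hM : PGen p M) (hP : Nat.card P = p) {U' : Subgroup M} (hU' : IsCoatom U')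
    {a' : ℕ} (hc : Nat.card (M ⧸ U') = a' + p) : a ≤ a' := by
  classical
  have := Fintype.ofFinite M
  have := Fintype.ofFinite (M ⧸ U)
  have := Fintype.ofFinite (M ⧸ U')
  have hr := h.range hp2 hM hP
  have hp3 : 3 ≤ p := by
    have := (Fact.out : p.Prime).two_le
    omega
  have hle : U'.normalCore ≤ U.normalCore :=
    h.normal_le hp2 hM hP (normalCore_normal U') (normalCore_ne_top hU'.1)
  have h1 : Nat.card (alternatingGroup (M ⧸ U)) ∣ Nat.card (alternatingGroup (M ⧸ U')) := by
    have e1 : U.normalCore.index = Nat.card (alternatingGroup (M ⧸ U)) := by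
      rw [normalCore_eq_ker, Subgroup.index_ker, hr]
    have e2 : U'.normalCore.index ∣ Nat.card (alternatingGroup (M ⧸ U')) := by
      rw [normalCore_eq_ker, Subgroup.index_ker]
      apply Subgroup.card_dvd_of_le
      rintro _ ⟨d, rfl⟩
      exact sign_eq_one hp2 hM d
    rw [← e1]
    exact (Subgroup.index_dvd_of_le hle).trans e2
  have hn1 : Nontrivial (M ⧸ U) := by
    rw [← Finite.one_lt_card_iff_nontrivial, h.card]
    omega
  have hn2 : Nontrivial (M ⧸ U') := by
    rw [← Finite.one_lt_card_iff_nontrivial, hc]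
    omega
  have h2 := Nat.mul_le_mul_left 2 (Nat.le_of_dvd Nat.card_pos h1)
  rw [two_mul_nat_card_alternatingGroup, two_mul_nat_card_alternatingGroup, Nat.card_perm,
    Nat.card_perm, h.card, hc] at h2
  by_contra hlt
  rw [not_le] at hlt
  have h3 := (Nat.factorial_lt (by omega : 0 < a' + p)).2 (by omega : a' + p < a + p)
  omega

/-- If a subgroup `D` generated by Sylow subgroups has no fixed point in an alternating action,
then it is everything modulo the kernel. -/
theorem IsAltCo.exists_fixed {P : Sylow p M} {U : Subgroup M} {a : ℕ} (h : IsAltCo P U a)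
    (hp2 : p ≠ 2) (hM : PGen p M) (hP : Nat.card P = p) {V : Subgroup M} (hV : V ≠ ⊤)
    {Q : Sylow p M} (hQ : (Q : Subgroup M) ≤ V) (hcore : U.normalCore ≤ V) :
    ∃ z : M ⧸ U, plus p V ≤ stabilizer M z := by
  classical
  have := Fintype.ofFinite M
  have := Fintype.ofFinite (M ⧸ U)
  by_contra hcon
  push Not at hcon
  have hQc : Nat.card (Q : Subgroup M) = p := by
    have : Nat.card Q = Nat.card P := Nat.card_congr (Sylow.equiv Q P).toEquiv
    exact this.trans hP
  have hQfix : (fs (Q : Subgroup M) (M ⧸ U)).ncard = a := by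
    obtain ⟨m, hm⟩ := MulAction.exists_smul_eq M P Q
    rw [← hm, Sylow.coe_subgroup_smul, ncard_fs_smul', h.fix]
  have hQD : (Q : Subgroup M) ≤ plus p V := le_plus hQ
  -- a moved point
  have hTc : (fs (Q : Subgroup M) (M ⧸ U))ᶜ.ncard = p := by
    have := Set.ncard_add_ncard_compl (fs (Q : Subgroup M) (M ⧸ U))
    rw [hQfix, h.card] at this
    omega
  have hTne : ((fs (Q : Subgroup M) (M ⧸ U))ᶜ).Nonempty := by
    rw [← Set.ncard_pos, hTc]
    exact (Fact.out : p.Prime).pos
  obtain ⟨t, ht⟩ := hTne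
  have hTorb : (orbit (Q : Subgroup M) t : Set (M ⧸ U)) = (fs (Q : Subgroup M) (M ⧸ U))ᶜ := by
    apply Set.eq_of_subset_of_ncard_le _ _ (Set.toFinite _)
    · rintro _ ⟨q, rfl⟩ hq
      apply ht
      have h1 : q • t = t := by
        have h2 : (q⁻¹ : (Q : Subgroup M)) • (q • t) = q • t := hq (q⁻¹).2
        rw [inv_smul_smul] at h2
        exact h2.symm
      simp only at hq
      rw [h1] at hq
      exact hq
    · rw [hTc]
      exact (ncard_orbit_eq hQc ht).ge
  -- transitivity
  have hreach : ∀ z : M ⧸ U, ∃ d ∈ plus p V, d • z ∈ (fs (Q : Subgroup M) (M ⧸ U))ᶜ := by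
    intro z
    by_contra hz
    push Not at hz
    simp only [Set.mem_compl_iff, not_not] at hz
    apply hcon z
    have hfin : ((stabilizer M z).subgroupOf (plus p V)) = ⊤ := by
      apply (pGen_plus hQ).eq_top
      intro R
      obtain ⟨d, hd⟩ := MulAction.exists_smul_eq (plus p V) (Q.subtype hQD) R
      rw [← hd, Sylow.coe_subgroup_smul, Sylow.coe_subtype]
      intro x hx
      rw [mem_pointwise_smul_iff_inv_smul_mem, ← map_inv, MulAut.smul_def, MulAut.conj_apply,
        mem_subgroupOf] at hx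
      rw [mem_subgroupOf, mem_stabilizer_iff]
      have h1 : ((d⁻¹ : plus p V) : M) • z ∈ fs (Q : Subgroup M) (M ⧸ U) := hz _ (d⁻¹).2
      have h2 := h1 hx
      rw [mem_stabilizer_iff] at h2
      have h3 : (x : M) • z = (d : M) • (((d⁻¹ * x * d⁻¹⁻¹ : plus p V) : M) •
          ((d⁻¹ : plus p V) : M) • z) := by
        rw [smul_smul, smul_smul]
        congr 1
        simp [mul_assoc]
      rw [h3, h2, smul_smul]
      simp
    rwa [subgroupOf_eq_top] at hfin
  have htrans : IsPretransitive (plus p V) (M ⧸ U) := by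
    have key : ∀ z : M ⧸ U, ∃ d : plus p V, d • t = z := by
      intro z
      obtain ⟨d, hd, hdz⟩ := hreach z
      rw [← hTorb] at hdz
      obtain ⟨q, hq⟩ := hdz
      refine ⟨⟨d, hd⟩⁻¹ * ⟨q, hQD q.2⟩, ?_⟩
      rw [mul_smul, inv_smul_eq_iff]
      exact hq
    constructor
    intro x y
    obtain ⟨d, rfl⟩ := key x
    obtain ⟨d', rfl⟩ := key y
    exact ⟨d' * d⁻¹, by rw [smul_smul, inv_mul_cancel_right]⟩
  have hQ' : Nat.card ((Q : Subgroup M).subgroupOf (plus p V)) = p :=
    (Nat.card_congr (subgroupOfEquivOfLe hQD).toEquiv).trans hQc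
  have hfix' : (fs ((Q : Subgroup M).subgroupOf (plus p V)) (M ⧸ U)).ncard = a := by
    rw [← hQfix]
    congr 1
    ext z
    rw [mem_fs, mem_fs]
    constructor
    · intro h1 q hq
      exact h1 (show (⟨q, hQD hq⟩ : plus p V) ∈ (Q : Subgroup M).subgroupOf (plus p V) from hq)
    · intro h1 q hq
      exact h1 hq
  have hr1 := range_eq_alternating (Z := M ⧸ U) hp2 (pGen_plus hQ) hQ' hfix'
    (by rw [← Nat.card_eq_fintype_card, h.card]) h.lt h.crit
  have hr2 := h.range hp2 hM hP
  apply hV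
  rw [eq_top_iff]
  intro m _
  have h1 : toPermHom M (M ⧸ U) m ∈ (toPermHom (plus p V) (M ⧸ U)).range := by
    rw [hr1, ← hr2]
    exact ⟨m, rfl⟩
  obtain ⟨d, hd⟩ := h1
  have h2 : (d : M)⁻¹ * m ∈ U.normalCore := by
    rw [normalCore_eq_ker, MonoidHom.mem_ker, map_mul, map_inv, ← hd, inv_mul_eq_one]
    rfl
  have h3 := V.mul_mem (plus_le V d.2) (hcore h2)
  rwa [mul_inv_cancel_left] at h3

theorem coe_stabilizer (U : Subgroup M) (g : M) :
    stabilizer M ((g : M) : M ⧸ U) = MulAut.conj g • U := by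
  have : ((g : M) : M ⧸ U) = g • (((1 : M) : M ⧸ U)) := by
    change _ = ((g * 1 : M) : M ⧸ U)
    rw [mul_one]
  rw [this, stabilizer_smul', stabilizer_mk_one]

theorem exists_sylow_le {P : Sylow p M} {U : Subgroup M} (h : (fs (P : Subgroup M) (M ⧸ U)).ncard ≠ 0) :
    ∃ Q : Sylow p M, (Q : Subgroup M) ≤ U := by
  obtain ⟨z, hz⟩ := Set.nonempty_of_ncard_ne_zero h
  obtain ⟨g, rfl⟩ := QuotientGroup.mk_surjective z
  rw [mem_fs, coe_stabilizer] at hz
  refine ⟨g⁻¹ • P, ?_⟩
  rw [Sylow.coe_subgroup_smul, map_inv]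
  exact Subgroup.subset_pointwise_smul_iff.1 hz

/-- **Lemma 4.** -/
theorem IsAltCo.conj {P : Sylow p M} {U : Subgroup M} {a : ℕ} (h : IsAltCo P U a)
    (hp2 : p ≠ 2) (hM : PGen p M) (hP : Nat.card P = p) {U' : Subgroup M} (hU' : IsCoatom U')
    {a' : ℕ} (hf : (fs (P : Subgroup M) (M ⧸ U')).ncard = a')
    (hc : Nat.card (M ⧸ U') = a' + p) (ha' : a' < p) :
    a' = a ∧ ∃ g : M, U = MulAut.conj g • U' := by
  have h1 := h.le hp2 hM hP hU' hc
  have h' : IsAltCo P U' a' := ⟨hU', hf, hc, ha', h.crit.mono h1⟩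
  have h2 := h'.le hp2 hM hP h.coatom h.card
  refine ⟨le_antisymm h2 h1, ?_⟩
  have key : ∀ {V V' : Subgroup M} {c c' : ℕ}, IsAltCo P V c → IsAltCo P V' c' →
      ∃ g : M, plus p V ≤ MulAut.conj g • plus p V' := by
    intro V V' c c' hV hV'
    obtain ⟨Q, hQ⟩ := exists_sylow_le (P := P) (U := V) (by
      rw [hV.fix]
      have := hV.crit.two_le
      omega)
    obtain ⟨z, hz⟩ := hV'.exists_fixed hp2 hM hP hV.coatom.1 hQ
      ((hV.normal_le hp2 hM hP (normalCore_normal V') (normalCore_ne_top hV'.coatom.1)).trans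
        (normalCore_le V))
    obtain ⟨g, rfl⟩ := QuotientGroup.mk_surjective z
    rw [coe_stabilizer] at hz
    refine ⟨g, ?_⟩
    rw [smul_plus]
    exact le_plus_iff_of_plus_le.1 hz
  obtain ⟨g, hg⟩ := key h h'
  obtain ⟨k, hk⟩ := key h' h
  have hcard : ∀ (g : M) (V : Subgroup M), Nat.card (MulAut.conj g • V : Subgroup M) = Nat.card V :=
    fun g V => (Nat.card_congr (Subgroup.equivSMul (MulAut.conj g) V).toEquiv).symm
  have h3 := Subgroup.card_le_of_le hk
  rw [hcard] at h3
  have h4 : plus p U = MulAut.conj g • plus p U' := by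
    apply Subgroup.eq_of_le_of_card_ge hg
    rw [hcard]
    exact h3
  obtain ⟨Q, hQ⟩ := exists_sylow_le (P := P) (U := U) (by
      rw [h.fix]
      have := h.crit.two_le
      omega)
  refine ⟨g, ?_⟩
  rw [smul_plus] at h4
  refine eq_of_plus_eq hM h.coatom ?_ hQ h4
  rw [← coe_stabilizer]
  have : IsPreprimitive M (M ⧸ U') := by
    have hnt : Nontrivial (M ⧸ U') := by
      rw [← Finite.one_lt_card_iff_nontrivial, hc]
      have := (Fact.out : p.Prime).two_le
      omega
    rw [← isCoatom_stabilizer_iff_preprimitive M ((1 : M) : M ⧸ U'), stabilizer_mk_one]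
    exact hU'
  have hnt : Nontrivial (M ⧸ U') := by
    rw [← Finite.one_lt_card_iff_nontrivial, hc]
    have := (Fact.out : p.Prime).two_le
    omega
  exact IsPreprimitive.isCoatom_stabilizer_of_isPreprimitive _ _

end Cfsg.Agent.H401
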