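import Cfsg.Agent.H401.Equi

set_option autoImplicit false
open Subgroup MulAction
open scoped Pointwise

namespace Cfsg.Agent.H401

universe u

variable {M : Type*} {X : Type u} [Group M] [MulAction M X]

theorem ncard_eq_sum [Finite X] {ι : Type*} [Fintype ι] (q : X → ι) (T : Set X) :
    T.ncard = ∑ i, (T ∩ {x | q x = i}).ncard := by
  classical
  have := Fintype.ofFinite X
  rw [Set.ncard_eq_toFinset_card' T,
    Finset.card_eq_sum_card_fiberwise (f := q) (t := Finset.univ) (fun _ _ => by simp)]
  apply Finset.sum_congr rfl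
  intro i _
  rw [Set.ncard_eq_toFinset_card']
  congr 1
  ext x
  simp

/-- Representatives of the orbits different from a given fixed point. -/
theorem exists_reps [Finite X] (β : X) (hβ : ∀ m : M, m • β = β) :
    ∃ (ι : Type u) (_ : Fintype ι) (δ : ι → X), (∀ i, δ i ≠ β) ∧
      (∀ x, x ≠ β → ∃ i, x ∈ orbit M (δ i)) ∧
      (∀ T : Set X, β ∈ T → T.ncard = 1 + ∑ i, (T ∩ orbit M (δ i)).ncard) := by
  classical
  have : Fintype (orbitRel.Quotient M X) := Fintype.ofFinite _
  let b : orbitRel.Quotient M X := Quotient.mk _ β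
  have hb : ∀ x : X, (Quotient.mk _ x : orbitRel.Quotient M X) = b ↔ x = β := by
    intro x
    simp only [b]
    rw [Quotient.eq, orbitRel_apply]
    constructor
    · rintro ⟨m, hm⟩
      rw [← hm]
      exact hβ m
    · rintro rfl
      exact mem_orbit_self _
  have hfib : ∀ ω : orbitRel.Quotient M X,
      {x : X | (Quotient.mk _ x : orbitRel.Quotient M X) = ω} = orbit M ω.out := by
    intro ω
    ext x
    simp only [Set.mem_ofPred_eq]
    rw [← orbitRel_apply, ← Quotient.eq (r := orbitRel M X), Quotient.out_eq]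
  refine ⟨{ω : orbitRel.Quotient M X // ω ≠ b}, inferInstance, fun ω => ω.1.out, ?_, ?_, ?_⟩
  · rintro ⟨ω, hω⟩ h
    apply hω
    rw [← Quotient.out_eq ω]
    exact (hb _).2 h
  · intro x hx
    refine ⟨⟨Quotient.mk _ x, fun h => hx ((hb x).1 h)⟩, ?_⟩
    rw [← hfib]
    rfl
  · intro T hT
    rw [ncard_eq_sum (fun x => (Quotient.mk _ x : orbitRel.Quotient M X)) T,
      Fintype.sum_eq_add_sum_subtype_ne _ b]
    congr 1
    · have : T ∩ {x | (Quotient.mk _ x : orbitRel.Quotient M X) = b} = {β} := by
        ext x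
        simp only [Set.mem_inter_iff, Set.mem_ofPred_eq, hb, Set.mem_singleton_iff]
        constructor
        · exact fun h => h.2
        · rintro rfl
          exact ⟨hT, rfl⟩
      rw [this, Set.ncard_singleton]
    · apply Finset.sum_congr rfl
      intro i _
      rw [hfib]

end Cfsg.Agent.H401
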