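import Mathlib
import Cfsg.Agent.H958.SixC.Ty
import Cfsg.Agent.H65.SixA

/-!
# S5927, S5928: `sixc_two`, piece Q2: uniqueness of the stable subspaces of dimension three of each type (helper401)
-/

set_option autoImplicit false
set_option linter.unusedSectionVars false

namespace Cfsg.Agent.H401.SixUniq

open Cfsg Cfsg.Lie Module Equiv
open Cfsg.Agent.ChevalleyStructure.E6Min.Tables Cfsg.Agent.ChevalleyStructure.E6Min.Basic
  Cfsg.Agent.ChevalleyStructure.E6Min.Adjoint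
open Cfsg.Agent.H952.F4 (ev es matRep sh cr tf MaxAlt)
open Cfsg.Agent.H952.F4.Jord
open Cfsg.Agent.H905.E6T (sh_zero cr_zero_left cr_zero_right)
open Cfsg.Agent.H163.E6 Cfsg.Agent.H163.E6.SixC
open Cfsg.Agent.H958.SixC

universe u

section abs

variable {F : Type u} [Field F] {P : Type*} [Group P]

theorem St.inf {M : Type*} [AddCommGroup M] [Module F M] {r : Representation F P M} {A B : Submodule F M} (hA : St r A)
    (hB : St r B) : St r (A ⊓ B) := fun g w hw => ⟨hA g w hw.1, hB g w hw.2⟩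

theorem St.sup {M : Type*} [AddCommGroup M] [Module F M] {r : Representation F P M} {A B : Submodule F M} (hA : St r A)
    (hB : St r B) : St r (A ⊔ B) := by
  intro g w hw
  obtain ⟨x, hx, y, hy, rfl⟩ := Submodule.mem_sup.1 hw
  rw [map_add]
  exact Submodule.add_mem_sup (hA g x hx) (hB g y hy)

/-- the fixed space on a quotient -/
theorem ev_quo {M : Type*} [AddCommGroup M] [Module F M] [FiniteDimensional F M] (T : Module.End F M) {S : Submodule F M}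
    (T' : Module.End F (M ⧸ S)) (hT' : ∀ v, T' (S.mkQ v) = S.mkQ (T v)) :
    ev T 1 ≤ finrank F ↥(S ⊓ Module.End.eigenspace T 1) + ev T' 1 := by
  let f : ↥(Module.End.eigenspace T 1) →ₗ[F] (M ⧸ S) := S.mkQ.comp (Module.End.eigenspace T 1).subtype
  have h1 := LinearMap.finrank_range_add_finrank_ker f
  have h2 : finrank F ↥(LinearMap.range f) ≤ ev T' 1 := by
    refine Submodule.finrank_mono ?_
    rintro _ ⟨v, rfl⟩
    rw [Module.End.mem_eigenspace_iff, one_smul]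
    show T' (S.mkQ (v : M)) = S.mkQ (v : M)
    rw [hT']
    have := Module.End.mem_eigenspace_iff.1 v.2
    rw [this, one_smul]
  have h3 : finrank F ↥(LinearMap.ker f) ≤ finrank F ↥(S ⊓ Module.End.eigenspace T 1) := by
    let k : ↥(LinearMap.ker f) →ₗ[F] ↥(S ⊓ Module.End.eigenspace T 1) :=
      ((Module.End.eigenspace T 1).subtype.comp (LinearMap.ker f).subtype).codRestrict _ (fun v => by
        refine ⟨?_, v.1.2⟩
        have h4 : S.mkQ ((v : ↥(Module.End.eigenspace T 1)) : M) = 0 := LinearMap.mem_ker.1 v.2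
        rwa [Submodule.mkQ_apply, Submodule.Quotient.mk_eq_zero] at h4)
    refine LinearMap.finrank_le_finrank_of_injective (f := k) ?_
    intro v w h
    have h4 := congrArg (fun x : ↥(S ⊓ Module.End.eigenspace T 1) => (x : M)) h
    exact Subtype.ext (Subtype.ext h4)
  have h4 : ev T 1 = finrank F ↥(Module.End.eigenspace T 1) := rfl
  omega

theorem rr_sub {M : Type*} [AddCommGroup M] [Module F M] {r : Representation F P M} {z g : P} {b : F} (u v : M) (s : F) :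
    rr r z g b (u - s • v) = rr r z g b u - s • rr r z g b v := by
  unfold rr
  simp only [map_sub, map_smul]
  module

theorem KF.sub {M : Type*} [AddCommGroup M] [Module F M] {r : Representation F P M} {z g : P} {u v : M}
    (hu : KF r z g u) (hv : KF r z g v) (s : F) : KF r z g (u - s • v) := by
  constructor
  · rw [map_sub, map_smul, hu.1, hv.1]
  · rw [map_sub, map_smul, hu.2, hv.2]

theorem crs_st {r r' : Representation F P (I27 → F)} (hcr : ∀ g x y, r' g (cr x y) = cr (r g x) (r g y))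
    {A B : Submodule F (I27 → F)} (hA : St r A) (hB : St r B) : St r' (crs A B) := by
  intro g w hw
  rw [crs] at hw
  induction hw using Submodule.span_induction with
  | mem w hw =>
    obtain ⟨x, hx, y, hy, rfl⟩ := hw
    rw [hcr]
    exact Submodule.subset_span ⟨_, hA g x hx, _, hB g y hy, rfl⟩
  | zero => rw [map_zero]; exact Submodule.zero_mem _
  | add a c _ _ ha hc => rw [map_add]; exact Submodule.add_mem _ ha hc
  | smul s a _ ha => rw [map_smul]; exact Submodule.smul_mem _ _ ha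

/-- output of BOX R for `cr` -/
def BR (r r' : Representation F P (I27 → F)) (z g₁ g₂ : P) : Prop :=
  ∀ W₁ W₂ : Submodule F (I27 → F), St r W₁ → St r W₂ → finrank F ↥W₁ = 3 → finrank F ↥W₂ = 3 → ∀ u₁ ∈ W₁, ∀ u₂ ∈ W₂,
    KF r z g₁ u₁ → KF r z g₂ u₂ → u₁ ≠ 0 → u₂ ≠ 0 →
    finrank F ↥(crs W₁ W₂) = 9 ∧ cr u₁ u₂ ≠ 0 ∧ (∀ y ∈ crs W₁ W₂, r' z y = y → ∃ s : F, y = s • cr u₁ u₂) ∧
      ∀ X ≤ crs W₁ W₂, St r' X → X = ⊥ ∨ X = crs W₁ W₂

variable [CharP F 2] {r r' : Representation F P (I27 → F)} {ζ z g₁ g₂ β t a : P} {b c : F}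

theorem uniq_aux (hd : ∀ W : Submodule F (I27 → F), St r W → 3 ∣ finrank F ↥W) (hF : Full ζ z g₁ g₂ β t a)
    (hc : Ch r' ζ c) (hs : Sc r β b) (hcr : ∀ g x y, r' g (cr x y) = cr (r g x) (r g y)) (hBR : BR r r' z g₁ g₂)
    (h6 : 6 ≤ ev (r' z) 1) {W W' W₂ : Submodule F (I27 → F)} (hW : St r W) (hW' : St r W') (hW₂ : St r W₂)
    (d : finrank F ↥W = 3) (d' : finrank F ↥W' = 3) (d₂ : finrank F ↥W₂ = 3) {u u' u₂ : I27 → F} (hu : u ∈ W) (hu' : u' ∈ W')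
    (hu₂ : u₂ ∈ W₂) (k : KF r z g₁ u) (k' : KF r z g₁ u') (k₂ : KF r z g₂ u₂) (n : u ≠ 0) (n' : u' ≠ 0) (n₂ : u₂ ≠ 0) :
    W = W' := by
  by_contra hne
  -- `W ∩ W' = 0`
  have hWW : W ⊓ W' = ⊥ := by
    obtain ⟨m, hm⟩ := hd _ (St.inf hW hW')
    have h1 : finrank F ↥(W ⊓ W') ≤ 3 := by
      have := Submodule.finrank_mono (inf_le_left : W ⊓ W' ≤ W)
      omega
    have h2 : m = 0 ∨ m = 1 := by omega
    rcases h2 with rfl | rfl
    · exact Submodule.finrank_eq_zero.1 hm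
    · exfalso
      have h3 : W ⊓ W' = W := Submodule.eq_of_le_of_finrank_eq inf_le_left (by omega)
      have h4 : W ⊓ W' = W' := Submodule.eq_of_le_of_finrank_eq inf_le_right (by omega)
      exact hne (h3.symm.trans h4)
  obtain ⟨dR, nR, fR, iR⟩ := hBR W W₂ hW hW₂ d d₂ u hu u₂ hu₂ k k₂ n n₂
  obtain ⟨dR', nR', fR', iR'⟩ := hBR W' W₂ hW' hW₂ d' d₂ u' hu' u₂ hu₂ k' k₂ n' n₂
  have sR := crs_st hcr hW hW₂
  have sR' := crs_st hcr hW' hW₂
  have hinf : crs W W₂ ⊓ crs W' W₂ = ⊥ := by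
    rcases iR _ inf_le_left (St.inf sR sR') with h | h
    · exact h
    exfalso
    have hle : crs W W₂ ≤ crs W' W₂ := by rw [← h]; exact inf_le_right
    have hz : r' z (cr u u₂) = cr u u₂ := by rw [hcr, k.1, k₂.1]
    obtain ⟨s, hs'⟩ := fR' _ (hle (Submodule.subset_span ⟨u, hu, u₂, hu₂, rfl⟩)) hz
    have hw0 : cr (u - s • u') u₂ = 0 := by
      have e : u - s • u' = u + (-s) • u' := by module
      rw [e, cr_add_left, cr_smul_left, hs', neg_smul, add_neg_cancel]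
    have kw : KF r z g₁ (u - s • u') := KF.sub k k' s
    by_cases hw : u - s • u' = 0
    · have h3 : u ∈ W ⊓ W' := by
        refine ⟨hu, ?_⟩
        rw [sub_eq_zero.1 hw]
        exact W'.smul_mem _ hu'
      rw [hWW, Submodule.mem_bot] at h3
      exact n h3
    · have r1 := rr_zero hd hF.h1 hs hW d hu k n
      have r2 := rr_zero hd hF.h1 hs hW' d' hu' k' n'
      have r3 : rr r z g₁ b (u - s • u') = 0 := by rw [rr_sub, r1, r2, smul_zero, sub_zero]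
      obtain ⟨s1, s2⟩ := S3_stable hF.h1 hs kw r3
      exact (hBR _ W₂ s1 hW₂ (S3_three hd hF.h1 hs kw r3 hw) d₂ _ s2 u₂ hu₂ kw k₂ hw n₂).2.1 hw0
  have sS := St.sup sR sR'
  have dS : finrank F ↥(crs W W₂ ⊔ crs W' W₂) = 18 := by
    have h1 := Submodule.finrank_sup_add_finrank_inf_eq (crs W W₂) (crs W' W₂)
    rw [hinf, finrank_bot] at h1
    omega
  -- fixed vectors in the sum
  have hfix : finrank F ↥((crs W W₂ ⊔ crs W' W₂) ⊓ Module.End.eigenspace (r' z) 1) ≤ 2 := by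
    have h1 : (crs W W₂ ⊔ crs W' W₂) ⊓ Module.End.eigenspace (r' z) 1 ≤ Submodule.span F {cr u u₂, cr u' u₂} := by
      rintro y ⟨hy, hy1⟩
      rw [SetLike.mem_coe, Module.End.mem_eigenspace_iff, one_smul] at hy1
      obtain ⟨p, hp, q, hq, rfl⟩ := Submodule.mem_sup.1 hy
      rw [map_add] at hy1
      have e1 : r' z p - p = q - r' z q := by
        rw [sub_eq_sub_iff_add_eq_add, hy1]
        abel
      have e2 : r' z p - p ∈ crs W W₂ ⊓ crs W' W₂ := by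
        refine ⟨Submodule.sub_mem _ (sR z p hp) hp, ?_⟩
        rw [e1]
        exact Submodule.sub_mem _ hq (sR' z q hq)
      rw [hinf, Submodule.mem_bot] at e2
      have e3 : q - r' z q = 0 := by rw [← e1, e2]
      obtain ⟨s, hs1⟩ := fR p hp (sub_eq_zero.1 e2)
      obtain ⟨s', hs2⟩ := fR' q hq (sub_eq_zero.1 e3).symm
      rw [hs1, hs2]
      exact Submodule.mem_span_pair.2 ⟨s, s', rfl⟩
    refine (Submodule.finrank_mono h1).trans ?_
    have h2 := finrank_range_le_card (R := F) ![cr u u₂, cr u' u₂]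
    rw [Matrix.range_cons, Matrix.range_cons, Matrix.range_empty, Set.union_empty, Set.singleton_union] at h2
    exact h2
  -- the quotient
  let S := crs W W₂ ⊔ crs W' W₂
  let q : Representation F P ((I27 → F) ⧸ S) := r'.quotient S (fun g w hw => sS g w hw)
  have hq : ∀ g v, q g (S.mkQ v) = S.mkQ (r' g v) := fun g v => rfl
  have hcq : Ch q ζ c := by
    refine ⟨fun v => ?_, hc.ne, hc.cube⟩
    obtain ⟨v, rfl⟩ := S.mkQ_surjective v
    rw [hq, hc.act, map_smul]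
  have e1 := ev_le hF q hcq
  have e2 := ev_quo (r' z) (S := S) (q z) (hq z)
  have e3 := Submodule.finrank_quotient_add_finrank S
  rw [H905.E6T.finrank27] at e3
  have e4 : finrank F ↥S = 18 := dS
  have e5 : finrank F ↥(S ⊓ Module.End.eigenspace (r' z) 1) ≤ 2 := hfix
  omega

end abs

/-! ### the concrete situation -/

/-- the statement of BOX R -/
def BoxR (F : Type u) [Field F] (P : Type u) [Group P] : Prop :=
  ∀ {ζ z g₁ g₂ β t a : P}, Full ζ z g₁ g₂ β t a → ∀ {c : F} {X₁ X₂ Y : Type u} [AddCommGroup X₁] [Module F X₁]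
    [FiniteDimensional F X₁] [AddCommGroup X₂] [Module F X₂] [FiniteDimensional F X₂] [AddCommGroup Y] [Module F Y]
    [FiniteDimensional F Y] (ρ₁ : Representation F P X₁) (ρ₂ : Representation F P X₂) (σ : Representation F P Y),
    Ch ρ₁ ζ c → Ch ρ₂ ζ c → finrank F X₁ = 3 → finrank F X₂ = 3 → ∀ {u₁ : X₁} {u₂ : X₂}, KF ρ₁ z g₁ u₁ → u₁ ≠ 0 →
    KF ρ₂ z g₂ u₂ → u₂ ≠ 0 → ∀ B : X₁ →ₗ[F] X₂ →ₗ[F] Y, (∀ g x y, σ g (B x y) = B (ρ₁ g x) (ρ₂ g y)) → B ≠ 0 →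
    ∀ R : Submodule F Y, R = Submodule.span F {y | ∃ x₁ x₂, y = B x₁ x₂} →
    finrank F ↥R = 9 ∧ B u₁ u₂ ≠ 0 ∧ (∀ y ∈ R, σ z y = y → ∃ s : F, y = s • B u₁ u₂) ∧
      ∀ X : Submodule F Y, X ≤ R → St σ X → X = ⊥ ∨ X = R

variable {F : Type u} [Field F] [Finite F] [CharP F 2] {H : Subgroup ↥(chevE6.group F)}
  {φ : ↥(alternatingGroup (Fin 6)) →* ↥(chevE6.group F)}

theorem br_of (hR : BoxR F ↥(φ.range.comap (ad F))) (hS : Sit H 6 φ) {ω : Fˣ} (hω : Cover φ ω)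
    {ζ z g₁ g₂ β t a : ↥(φ.range.comap (ad F))} (hF : Full ζ z g₁ g₂ β t a)
    (hζ : ((ζ : ↥(Zgrp F)) : GL I27 F) = scal ω) {ρ ρ' : Representation F ↥(Zgrp F) (I27 → F)} (hp : Pr ρ ρ') :
    BR (rP φ ρ) (rP φ ρ') z g₁ g₂ := by
  intro W₁ W₂ h₁ h₂ d₁ d₂ u₁ m₁ u₂ m₂ k₁ k₂ n₁ n₂
  obtain ⟨c, hc⟩ := ch_pr hω.1 hω.2.1 hζ hp.left
  let B : ↥W₁ →ₗ[F] ↥W₂ →ₗ[F] (I27 → F) := (H905.E6T.crB F).domRestrict₁₂ W₁ W₂
  have hBa : ∀ x y, B x y = cr (x : I27 → F) (y : I27 → F) := fun x y => rfl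
  have key := hR hF (c := c) ((rP φ ρ).subrepresentation W₁ (fun g w hw => h₁ g w hw))
    ((rP φ ρ).subrepresentation W₂ (fun g w hw => h₂ g w hw)) (rP φ ρ')
    ⟨fun v => Subtype.ext (hc.act v), hc.ne, hc.cube⟩ ⟨fun v => Subtype.ext (hc.act v), hc.ne, hc.cube⟩ d₁ d₂
    (u₁ := ⟨u₁, m₁⟩) (u₂ := ⟨u₂, m₂⟩) ⟨Subtype.ext k₁.1, Subtype.ext k₁.2⟩ (fun h => n₁ (congrArg Subtype.val h))
    ⟨Subtype.ext k₂.1, Subtype.ext k₂.2⟩ (fun h => n₂ (congrArg Subtype.val h)) B (fun g x y => hp.cr g x y)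
    (by
      intro h0
      refine n₂ (ann hS (div3 hS.inj hω) hp.left (st_iff.1 h₁) d₁ fun u hu => ?_)
      have h1 := LinearMap.congr_fun (LinearMap.congr_fun h0 ⟨u, hu⟩) ⟨u₂, m₂⟩
      exact h1)
    (crs W₁ W₂) (by
      rw [crs]
      congr 1
      ext y
      constructor
      · rintro ⟨x, hx, v, hv, rfl⟩
        exact ⟨⟨x, hx⟩, ⟨v, hv⟩, rfl⟩
      · rintro ⟨x, v, rfl⟩
        exact ⟨x, x.2, v, v.2, rfl⟩)
  exact key

theorem exists_sc {ω : Fˣ} (hω : Cover φ ω)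
    {ζ z g₁ g₂ β t a : ↥(φ.range.comap (ad F))} (hF : Full ζ z g₁ g₂ β t a)
    (hζ : ((ζ : ↥(Zgrp F)) : GL I27 F) = scal ω) {ρ : Representation F ↥(Zgrp F) (I27 → F)} (hρ : ρ = V F ∨ ρ = V' F) :
    ∃ b : F, Sc (rP φ ρ) β b := by
  obtain ⟨c, hc⟩ := ch_pr hω.1 hω.2.1 hζ hρ
  rcases hF.beta with h | h
  · exact ⟨c, by rw [h]; exact Sc.of_Ch hc⟩
  · exact ⟨c * c, by rw [h]; exact (Sc.of_Ch hc).inv⟩

/-- **Q2** -/
theorem uniq_of (hR : BoxR F ↥(φ.range.comap (ad F))) (hS : Sit H 6 φ) {ω : Fˣ} (hω : Cover φ ω)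
    {ζ z g₁ g₂ β t a : ↥(φ.range.comap (ad F))} (hF : Full ζ z g₁ g₂ β t a)
    (hζ : ((ζ : ↥(Zgrp F)) : GL I27 F) = scal ω) {ρ ρ' : Representation F ↥(Zgrp F) (I27 → F)} (hp : Pr ρ ρ')
    (h6 : 6 ≤ ev (ρ' z) 1) {W W' W₂ : Submodule F (I27 → F)} (h : Ty φ ρ z g₁ W) (h' : Ty φ ρ z g₁ W')
    (h2 : Ty φ ρ z g₂ W₂) : W = W' := by
  obtain ⟨u, hu, n, k⟩ := h.k
  obtain ⟨u', hu', n', k'⟩ := h'.k
  obtain ⟨u₂, hu₂, n₂, k₂⟩ := h2.k
  obtain ⟨b, hs⟩ := exists_sc hω hF hζ hp.left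
  obtain ⟨c, hc⟩ := ch_pr hω.1 hω.2.1 hζ hp.right
  exact uniq_aux (hd hS.inj hω hp.left) hF hc hs (fun g x y => hp.cr g x y) (br_of hR hS hω hF hζ hp) h6
    (st_iff.2 h.st) (st_iff.2 h'.st) (st_iff.2 h2.st) h.d h'.d h2.d hu hu' hu₂ k k' k₂ n n' n₂

end Cfsg.Agent.H401.SixUniq
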