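import Cfsg.Agent.H401.L4

/-!
# Maximal subgroups of an alternating group which are set stabilizers
-/

set_option autoImplicit false
open Subgroup MulAction
open scoped Pointwise

namespace Cfsg.Agent.H401

section

variable {M : Type*} [Group M]

theorem ncard_fs_quot {Y : Type*} [MulAction M Y] [IsPretransitive M Y] {U : Subgroup M} {y : Y}
    (hy : stabilizer M y = U) (H : Subgroup M) : (fs H (M ⧸ U)).ncard = (fs H Y).ncard := by
  subst hy
  let e : M ⧸ stabilizer M y → Y := ofQuotientStabilizer M y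
  have he : Function.Injective e := injective_ofQuotientStabilizer M y
  have hs : Function.Surjective e := by
    intro z
    obtain ⟨m, rfl⟩ := MulAction.exists_smul_eq M y z
    exact ⟨(m : M ⧸ stabilizer M y), ofQuotientStabilizer_mk M y m⟩
  have hsm : ∀ (m : M) (q : M ⧸ stabilizer M y), e (m • q) = m • e q := fun m q =>
    ofQuotientStabilizer_smul M y m q
  have : fs H Y = e '' fs H (M ⧸ stabilizer M y) := by
    ext z
    constructor
    · intro hz
      obtain ⟨q, rfl⟩ := hs z
      refine ⟨q, ?_, rfl⟩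
      intro h hh
      apply he
      rw [hsm]
      exact hz hh
    · rintro ⟨q, hq, rfl⟩ h hh
      rw [mem_stabilizer_iff, ← hsm]
      congr 1
      exact hq hh
  rw [this, Set.ncard_image_of_injective _ he]

theorem card_quot {Y : Type*} [MulAction M Y] [IsPretransitive M Y] {U : Subgroup M} {y : Y}
    (hy : stabilizer M y = U) : Nat.card (M ⧸ U) = Nat.card Y := by
  rw [← index_stabilizer_of_transitive M y, hy]
  rfl

end

/-! ### binomial coefficients -/

theorem choose_mul (a w : ℕ) :
    (a + 2).choose (w + 2) * ((w + 2) * (w + 1)) = (a + 2) * (a + 1) * a.choose w := by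
  have h1 := Nat.add_one_mul_choose_eq (a + 1) (w + 1)
  have h2 := Nat.add_one_mul_choose_eq a w
  calc (a + 2).choose (w + 2) * ((w + 2) * (w + 1))
      = ((a + 1 + 1).choose (w + 1 + 1) * (w + 1 + 1)) * (w + 1) := by ring
    _ = ((a + 1 + 1) * (a + 1).choose (w + 1)) * (w + 1) := by rw [h1]
    _ = (a + 2) * ((a + 1).choose (w + 1) * (w + 1)) := by ring
    _ = (a + 2) * ((a + 1) * a.choose w) := by rw [h2]
    _ = _ := by ring

theorem four_choose_lt {a p w : ℕ} (hw : 2 ≤ w) (hwa : w ≤ a) (hap : a < p) :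
    4 * a.choose w < (a + p).choose w := by
  obtain ⟨v, rfl⟩ : ∃ v, w = v + 2 := ⟨w - 2, by omega⟩
  obtain ⟨c, rfl⟩ : ∃ c, a = c + 2 := ⟨a - 2, by omega⟩
  obtain ⟨m, hm⟩ : ∃ m, c + 2 + p = m + 2 := ⟨c + p, by omega⟩
  rw [hm]
  have h1 := choose_mul c v
  have h2 := choose_mul m v
  have h3 : c.choose v ≤ m.choose v := Nat.choose_le_choose v (by omega)
  have h4 : 4 * ((c + 2) * (c + 1)) < (m + 2) * (m + 1) := by nlinarith
  have hpos : 0 < c.choose v := Nat.choose_pos (by omega)
  have h5 : 4 * (c + 2).choose (v + 2) * ((v + 2) * (v + 1)) <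
      (m + 2).choose (v + 2) * ((v + 2) * (v + 1)) := by
    rw [h2]
    calc 4 * (c + 2).choose (v + 2) * ((v + 2) * (v + 1))
        = 4 * ((c + 2).choose (v + 2) * ((v + 2) * (v + 1))) := by ring
      _ = 4 * ((c + 2) * (c + 1)) * c.choose v := by rw [h1]; ring
      _ < (m + 2) * (m + 1) * c.choose v := Nat.mul_lt_mul_of_pos_right h4 hpos
      _ ≤ (m + 2) * (m + 1) * m.choose v := Nat.mul_le_mul_left _ h3
  exact Nat.lt_of_mul_lt_mul_right h5

theorem choose_two_le {m w : ℕ} (hw : 2 ≤ w) (hwm : 2 * w ≤ m) : m.choose 2 ≤ m.choose w := by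
  induction w, hw using Nat.le_induction with
  | base => exact le_rfl
  | succ w hw ih =>
    refine (ih (by omega)).trans ?_
    apply Nat.choose_le_succ_of_lt_half_left
    omega

/-- The arithmetic contradiction for set stabilizers. -/
theorem numeric_sets {p a w f1 l1 : ℕ} (hp3 : 3 ≤ p) (hap : a < p) (hw : 2 ≤ w) (hwa : w ≤ a)
    (hl : 2 ≤ l1) (hf : (p - 1) * (l1 - 2) + 1 ≤ f1) (h1 : f1 = a.choose w)
    (h2 : f1 + p * l1 = (a + p).choose w) : False := by
  have h3 := four_choose_lt hw hwa hap
  rw [← h1, ← h2] at h3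
  obtain ⟨k, rfl⟩ : ∃ k, l1 = k + 2 := ⟨l1 - 2, by omega⟩
  obtain ⟨q, rfl⟩ : ∃ q, p = q + 1 := ⟨p - 1, by omega⟩
  simp only [Nat.add_sub_cancel] at hf
  have e1 : (q + 1) * (k + 2) = q * k + k + 2 * q + 2 := by ring
  rw [e1] at h3 h2
  have hk : k = 0 := by
    by_contra hk
    obtain ⟨j, rfl⟩ : ∃ j, k = j + 1 := ⟨k - 1, by omega⟩
    have h4 : q * (j + 1) = q * j + q := by ring
    have h5 : 2 * j ≤ q * j := Nat.mul_le_mul_right _ (by omega)
    omega
  subst hk
  have h6 := choose_two_le hw (show 2 * w ≤ a + (q + 1) by omega)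
  rw [← h2] at h6
  have h7 : (q + 3).choose 2 ≤ (a + (q + 1)).choose 2 := Nat.choose_le_choose 2 (by omega)
  have h8 : (q + 3) * (q + 2) = (q + 3).choose 2 * 2 := by
    have := Nat.add_one_mul_choose_eq (q + 2) 1
    rw [Nat.choose_one_right] at this
    exact this
  have h9 : (q + 3) * (q + 2) = q * q + 5 * q + 6 := by ring
  have h10 : 2 * q ≤ q * q := Nat.mul_le_mul_right _ (by omega)
  simp only [mul_zero, zero_add] at h3 h6
  -- `q ≥ 2`
  rcases Nat.lt_or_ge q 3 with h11 | h11
  · have : q = 2 := by omega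
    subst this
    omega
  · have h12 : 3 * q ≤ q * q := Nat.mul_le_mul_right _ h11
    omega

section

variable {M : Type*} [Group M] [Finite M] {p : ℕ} [Fact p.Prime]

/-- If the core of an alternating maximal subgroup `U` lies in the maximal subgroup `V`, then `V`
is the stabilizer of a set, and we get a numerical contradiction. -/
theorem IsAltCo.core_not_le {P : Sylow p M} {U : Subgroup M} {a : ℕ} (h : IsAltCo P U a)
    (hp2 : p ≠ 2) (hM : PGen p M) (hP : Nat.card P = p) {V : Subgroup M} (hV : IsCoatom V)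
    {f1 l1 : ℕ} (hf1 : (fs (P : Subgroup M) (M ⧸ V)).ncard = f1)
    (hV1 : Nat.card (M ⧸ V) = f1 + p * l1) (hl1 : 2 ≤ l1) (hf : (p - 1) * (l1 - 2) + 1 ≤ f1) :
    ¬ U.normalCore ≤ V := by
  classical
  intro hcore
  have hp : p.Prime := Fact.out
  have hp3 : 3 ≤ p := by
    have := hp.two_le
    omega
  have := Fintype.ofFinite M
  have := Fintype.ofFinite (M ⧸ U)
  have ha2 := h.crit.two_le
  have halt := h.lt
  obtain ⟨Q, hQ⟩ := exists_sylow_le (P := P) (U := V) (by rw [hf1]; omega)
  obtain ⟨z0, hz0⟩ := h.exists_fixed hp2 hM hP hV.1 hQ hcore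
  set Ws : Set (M ⧸ U) := fs (plus p V) (M ⧸ U) with hWs
  let W : Finset (M ⧸ U) := Ws.toFinset
  have hWcoe : (W : Set (M ⧸ U)) = Ws := by simp [W]
  have hWQ : Ws ⊆ fs (Q : Subgroup M) (M ⧸ U) := fun z hz => (le_plus hQ).trans hz
  have hQfix : (fs (Q : Subgroup M) (M ⧸ U)).ncard = a := by
    obtain ⟨m, hm⟩ := MulAction.exists_smul_eq M P Q
    rw [← hm, Sylow.coe_subgroup_smul, ncard_fs_smul', h.fix]
  have hwa : W.card ≤ a := by
    rw [← Set.ncard_coe_finset, hWcoe, ← hQfix]
    exact Set.ncard_le_ncard hWQ (Set.toFinite _)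
  have hw1 : 1 ≤ W.card := by
    rw [Nat.succ_le_iff, Finset.card_pos]
    exact ⟨z0, by simp [W, hWs, mem_fs, hz0]⟩
  -- `V` preserves `W`
  have hVW : ∀ v ∈ V, v • W = W := by
    intro v hv
    rw [← Finset.coe_inj, Finset.coe_smul_finset, hWcoe]
    have h1 : MulAut.conj v • plus p V = plus p V := by
      rw [smul_plus, smul_eq_of_mem hv]
    ext z
    rw [Set.mem_smul_set_iff_inv_smul_mem]
    have h2 := fs_smul (plus p V) v (v⁻¹ • z)
    rw [smul_inv_smul, h1] at h2
    exact h2.symm
  let y0 : Set.powersetCard (M ⧸ U) W.card := ⟨W, rfl⟩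
  have hr := h.range hp2 hM hP
  have htr : IsPretransitive M (Set.powersetCard (M ⧸ U) W.card) := by
    have h1 := Set.powersetCard.isPretransitive_alternatingGroup (α := M ⧸ U) (n := W.card)
      (by rw [h.card]; omega)
    constructor
    intro x y
    obtain ⟨⟨σ, hσ⟩, hσxy⟩ := h1.exists_smul_eq x y
    rw [← hr] at hσ
    obtain ⟨m, rfl⟩ := hσ
    refine ⟨m, ?_⟩
    rw [← hσxy]
    rfl
  have hst : stabilizer M y0 = V := by
    have h1 : V ≤ stabilizer M y0 := by
      intro v hv
      rw [mem_stabilizer_iff]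
      apply Subtype.ext
      rw [Set.powersetCard.coe_smul]
      exact hVW v hv
    rcases h1.eq_or_lt with h2 | h2
    · exact h2.symm
    · exfalso
      have h3 := hV.2 _ h2
      have h4 : Nat.card (Set.powersetCard (M ⧸ U) W.card) = 1 := by
        rw [← index_stabilizer_of_transitive M y0, h3, Subgroup.index_top]
      rw [Set.powersetCard.card, h.card] at h4
      have h6 : (a + p).choose 1 ≤ (a + p).choose W.card := by
        rcases hw1.eq_or_lt with h7 | h7
        · rw [← h7]
        · refine le_trans ?_ (choose_two_le h7 (by omega))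
          apply Nat.choose_le_succ_of_lt_half_left
          omega
      rw [Nat.choose_one_right] at h6
      omega
  have hcardV : Nat.card (M ⧸ V) = (a + p).choose W.card := by
    rw [card_quot hst, Set.powersetCard.card, h.card]
  -- the fixed points of `P`
  have hfixV : (fs (P : Subgroup M) (M ⧸ V)).ncard = a.choose W.card := by
    rw [ncard_fs_quot hst]
    have hmem : ∀ y : Set.powersetCard (M ⧸ U) W.card, y ∈ fs (P : Subgroup M) _ ↔
        (y.val : Set (M ⧸ U)) ⊆ fs (P : Subgroup M) (M ⧸ U) := by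
      intro y
      obtain ⟨m, rfl⟩ := MulAction.exists_smul_eq M y0 y
      have hval : ((m • y0 : Set.powersetCard (M ⧸ U) W.card).val : Set (M ⧸ U)) = m • Ws := by
        rw [Set.powersetCard.coe_smul, Finset.coe_smul_finset, ← hWcoe]
      rw [hval]
      constructor
      · intro hPy
        rw [mem_fs, stabilizer_smul', hst] at hPy
        have h1 := le_plus hPy
        rw [← smul_plus] at h1
        rintro _ ⟨z, hz, rfl⟩
        rw [mem_fs]
        refine h1.trans ?_
        simp only
        rw [stabilizer_smul']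
        exact Subgroup.pointwise_smul_le_pointwise_smul_iff.2 hz
      · intro hsub g hg
        rw [mem_stabilizer_iff]
        apply Subtype.ext
        rw [Set.powersetCard.coe_smul, ← Finset.coe_inj, Finset.coe_smul_finset, hval]
        ext z
        rw [Set.mem_smul_set_iff_inv_smul_mem]
        constructor
        · intro hz
          have h1 : g • (g⁻¹ • z) = g⁻¹ • z := hsub hz hg
          rw [smul_inv_smul] at h1
          rw [h1]
          exact hz
        · intro hz
          have h1 : g⁻¹ • z = z := hsub hz (inv_mem hg)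
          rw [h1]
          exact hz
    have himg : (fun y : Set.powersetCard (M ⧸ U) W.card => y.val) '' fs (P : Subgroup M) _ =
        ((Finset.powersetCard W.card (fs (P : Subgroup M) (M ⧸ U)).toFinset : Finset _) :
          Set (Finset (M ⧸ U))) := by
      ext T
      simp only [Set.mem_image, Finset.mem_coe, Finset.mem_powersetCard]
      constructor
      · rintro ⟨y, hy, rfl⟩
        rw [hmem] at hy
        refine ⟨?_, y.2⟩
        intro z hz
        rw [Set.mem_toFinset]
        exact hy hz
      · rintro ⟨h1, h2⟩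
        refine ⟨⟨T, h2⟩, ?_, rfl⟩
        rw [hmem]
        intro z hz
        have := h1 hz
        rwa [Set.mem_toFinset] at this
    rw [← Set.ncard_image_of_injective _ Subtype.val_injective, himg, Set.ncard_coe_finset,
      Finset.card_powersetCard, ← Set.ncard_eq_toFinset_card', h.fix]
  rcases hw1.eq_or_lt with hw1' | hw2
  · rw [← hw1', Nat.choose_one_right] at hcardV
    have h7 : p * 2 ≤ p * l1 := Nat.mul_le_mul_left _ hl1
    omega
  · exact numeric_sets hp3 halt hw2 hwa hl1 hf (by rw [← hf1, hfixV]) (by rw [← hV1, hcardV])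

end

end Cfsg.Agent.H401
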